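import Mathlib
import Groth.Agent.Lib.Helper5.CA.PSAdicSmooth
import Groth.Agent.Lib.Helper5.CA.PSCont
import Groth.Agent.Lib.Helper5.CA.Cohen2

set_option autoImplicit false
universe u

open MvPowerSeries

namespace Groth.Agent.H5.FSm

variable {Λ : Type*} [CommRing Λ] (𝔞 : Ideal Λ) (n : ℕ)

/-- the ideal `𝔞 Λ[[X]] + (X)` of a power series ring. -/
noncomputable def psIdeal : Ideal (MvPowerSeries (Fin n) Λ) :=
  𝔞.map (C : Λ →+* MvPowerSeries (Fin n) Λ) ⊔
    Ideal.span (Set.range (X : Fin n → MvPowerSeries (Fin n) Λ))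

theorem constantCoeff_mem_of_mem_psIdeal {f : MvPowerSeries (Fin n) Λ} (hf : f ∈ psIdeal 𝔞 n) :
    constantCoeff f ∈ 𝔞 := by
  have h : (psIdeal 𝔞 n).map (constantCoeff : MvPowerSeries (Fin n) Λ →+* Λ) ≤ 𝔞 := by
    rw [psIdeal, Ideal.map_sup, Ideal.map_map, Ideal.map_span, sup_le_iff]
    constructor
    · have : (constantCoeff : MvPowerSeries (Fin n) Λ →+* Λ).comp C = RingHom.id Λ := by
        ext a; simp
      rw [this, Ideal.map_id]
    · rw [Ideal.span_le]
      rintro _ ⟨_, ⟨i, rfl⟩, rfl⟩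
      simp
  exact h (Ideal.mem_map_of_mem _ hf)

/-- coefficients of elements of `(𝔞S + (X))^j`. -/
theorem coeff_mem_of_mem_psIdeal_pow (j : ℕ) :
    ∀ f ∈ psIdeal 𝔞 n ^ j, ∀ β : Fin n →₀ ℕ, coeff β f ∈ 𝔞 ^ (j - β.degree) := by
  induction j with
  | zero => intro f _ β; simp
  | succ j ih =>
    intro f hf β
    rw [pow_succ'] at hf
    refine Submodule.mul_induction_on hf ?_ ?_
    · intro g hg h hh
      classical
      rw [coeff_mul]
      refine Ideal.sum_mem _ ?_
      rintro ⟨β', β''⟩ hβ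
      rw [Finset.HasAntidiagonal.mem_antidiagonal] at hβ
      simp only
      have hdeg : β'.degree + β''.degree = β.degree := by
        rw [← hβ, map_add]
      by_cases h0 : β' = 0
      · subst h0
        have h1 : coeff 0 g ∈ 𝔞 := constantCoeff_mem_of_mem_psIdeal 𝔞 n hg
        have h2 := ih h hh β''
        have h3 : coeff 0 g * coeff β'' h ∈ 𝔞 ^ (1 + (j - β''.degree)) := by
          rw [pow_add, pow_one]
          exact Ideal.mul_mem_mul h1 h2
        refine Ideal.pow_le_pow_right ?_ h3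
        simp only [map_zero, zero_add] at hdeg
        omega
      · have h2 := ih h hh β''
        have hpos : 0 < β'.degree := by
          rcases Nat.eq_zero_or_pos β'.degree with h | h
          · exact absurd ((Finsupp.degree_eq_zero_iff β').mp h) h0
          · exact h
        refine Ideal.mul_mem_left _ _ (Ideal.pow_le_pow_right ?_ h2)
        omega
    · intro x y hx hy
      rw [map_add]
      exact Ideal.add_mem _ hx hy

theorem monomial_one_mem_pow (β : Fin n →₀ ℕ) :
    (monomial β (1 : Λ) : MvPowerSeries (Fin n) Λ) ∈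
      Ideal.span (Set.range (X : Fin n → MvPowerSeries (Fin n) Λ)) ^ β.degree := by
  apply Groth.Agent.H5.CA.mem_pow_of_le_order
  refine MvPowerSeries.nat_le_order (fun d hd => ?_)
  classical
  rw [coeff_monomial, if_neg]
  rintro rfl
  exact lt_irrefl _ hd

/-- converse: a power series whose coefficients lie in the right powers lies in `(𝔞S + (X))^j`. -/
theorem mem_psIdeal_pow_of_coeff (j : ℕ) (f : MvPowerSeries (Fin n) Λ)
    (hf : ∀ β : Fin n →₀ ℕ, coeff β f ∈ 𝔞 ^ (j - β.degree)) : f ∈ psIdeal 𝔞 n ^ j := by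
  classical
  have h1 : f - ((truncTotal j f : MvPolynomial (Fin n) Λ) : MvPowerSeries (Fin n) Λ) ∈
      psIdeal 𝔞 n ^ j :=
    Ideal.pow_right_mono le_sup_right j (Groth.Agent.H5.CA.sub_truncTotal_mem_pow j f)
  have h2 : ((truncTotal j f : MvPolynomial (Fin n) Λ) : MvPowerSeries (Fin n) Λ) ∈
      psIdeal 𝔞 n ^ j := by
    have hc : ∀ P : MvPolynomial (Fin n) Λ, (P : MvPowerSeries (Fin n) Λ) =
        MvPolynomial.coeToMvPowerSeries.ringHom P := fun _ => rfl
    rw [(truncTotal j f).as_sum, hc, map_sum]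
    simp only [← hc]
    refine Ideal.sum_mem _ (fun β _ => ?_)
    rw [MvPolynomial.coe_monomial, coeff_truncTotal_eq_ite]
    split_ifs with hβ
    · have h3 : (monomial β (coeff β f) : MvPowerSeries (Fin n) Λ) =
          C (coeff β f) * monomial β (1 : Λ) := by
        rw [← monomial_zero_eq_C_apply, monomial_mul_monomial, zero_add, mul_one]
      rw [h3]
      have h4 : (C (coeff β f) : MvPowerSeries (Fin n) Λ) ∈ psIdeal 𝔞 n ^ (j - β.degree) := by
        refine Ideal.pow_right_mono le_sup_left _ ?_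
        rw [← Ideal.map_pow]
        exact Ideal.mem_map_of_mem _ (hf β)
      have h5 : (monomial β (1 : Λ) : MvPowerSeries (Fin n) Λ) ∈ psIdeal 𝔞 n ^ β.degree :=
        Ideal.pow_right_mono le_sup_right _ (monomial_one_mem_pow n β)
      have h6 : j = (j - β.degree) + β.degree := by omega
      rw [h6, pow_add]
      exact Ideal.mul_mem_mul h4 h5
    · rw [map_zero]; exact zero_mem _
  have : f = (f - ((truncTotal j f : MvPolynomial (Fin n) Λ) : MvPowerSeries (Fin n) Λ)) +
      ((truncTotal j f : MvPolynomial (Fin n) Λ) : MvPowerSeries (Fin n) Λ) := by ring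
  rw [this]
  exact Ideal.add_mem _ h1 h2

theorem mem_psIdeal_pow_iff (j : ℕ) (f : MvPowerSeries (Fin n) Λ) :
    f ∈ psIdeal 𝔞 n ^ j ↔ ∀ β : Fin n →₀ ℕ, coeff β f ∈ 𝔞 ^ (j - β.degree) :=
  ⟨coeff_mem_of_mem_psIdeal_pow 𝔞 n j f, mem_psIdeal_pow_of_coeff 𝔞 n j f⟩


instance isHausdorff_psIdeal [IsHausdorff 𝔞 Λ] :
    IsHausdorff (psIdeal 𝔞 n) (MvPowerSeries (Fin n) Λ) := by
  refine ⟨fun f hf => ?_⟩
  ext β
  rw [map_zero]
  apply IsHausdorff.haus' (I := 𝔞)
  intro m
  rw [SModEq.zero, smul_eq_mul, Ideal.mul_top]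
  have h1 := hf (m + β.degree)
  rw [SModEq.zero, smul_eq_mul, Ideal.mul_top] at h1
  have h2 := coeff_mem_of_mem_psIdeal_pow 𝔞 n _ f h1 β
  simpa using h2

instance isPrecomplete_psIdeal [IsPrecomplete 𝔞 Λ] :
    IsPrecomplete (psIdeal 𝔞 n) (MvPowerSeries (Fin n) Λ) := by
  refine ⟨fun F hF => ?_⟩
  have hF' : ∀ {a b : ℕ}, a ≤ b → F a - F b ∈ psIdeal 𝔞 n ^ a := by
    intro a b hab
    have := hF hab
    rw [SModEq.sub_mem, smul_eq_mul, Ideal.mul_top] at this
    exact this
  have hc : ∀ β : Fin n →₀ ℕ, ∃ L : Λ, ∀ m,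
      coeff β (F (m + β.degree)) ≡ L [SMOD (𝔞 ^ m • ⊤ : Submodule Λ Λ)] := by
    intro β
    apply IsPrecomplete.prec' (I := 𝔞) (fun m => coeff β (F (m + β.degree)))
    intro a b hab
    rw [SModEq.sub_mem, smul_eq_mul, Ideal.mul_top, ← map_sub]
    have := coeff_mem_of_mem_psIdeal_pow 𝔞 n _ _
      (hF' (Nat.add_le_add_right hab β.degree)) β
    simpa using this
  choose L hL using hc
  refine ⟨fun β => L β, fun j => ?_⟩
  rw [SModEq.sub_mem, smul_eq_mul, Ideal.mul_top, mem_psIdeal_pow_iff]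
  intro β
  by_cases h : β.degree ≤ j
  · have := hL β (j - β.degree)
    rw [SModEq.sub_mem, smul_eq_mul, Ideal.mul_top, Nat.sub_add_cancel h] at this
    rw [map_sub]
    exact this
  · have h0 : j - β.degree = 0 := by omega
    rw [h0, pow_zero, Ideal.one_eq_top]
    trivial

instance isAdicComplete_psIdeal [IsAdicComplete 𝔞 Λ] :
    IsAdicComplete (psIdeal 𝔞 n) (MvPowerSeries (Fin n) Λ) where

/-- power series over a complete local ring are complete. -/
instance isAdicComplete_maximalIdeal_mvPowerSeries (A : Type u) [CommRing A] [IsLocalRing A]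
    [IsAdicComplete (IsLocalRing.maximalIdeal A) A] (n : ℕ) :
    IsAdicComplete (IsLocalRing.maximalIdeal (MvPowerSeries (Fin n) A))
      (MvPowerSeries (Fin n) A) := by
  have h : IsLocalRing.maximalIdeal (MvPowerSeries (Fin n) A) =
      psIdeal (IsLocalRing.maximalIdeal A) n := by
    rw [Cohen2.maximalIdeal_mvPowerSeries, Groth.Agent.H5.CA.ker_constantCoeff_eq_span, psIdeal]
  rw [h]
  infer_instance

end Groth.Agent.H5.FSm
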