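import Mathlib
import Groth.Agent.Lib.Helper5.CA.CF2
import Groth.Agent.Lib.Helper5.FSm.PSComplete

set_option autoImplicit false
universe u

open MvPowerSeries IsLocalRing

namespace Groth.Agent.H5.FSm

theorem spanFinrank_maximalIdeal_mvPowerSeries_le (Λ : Type u) [CommRing Λ] [IsLocalRing Λ]
    [IsNoetherianRing Λ] (n : ℕ) :
    (maximalIdeal (MvPowerSeries (Fin n) Λ)).spanFinrank ≤ (maximalIdeal Λ).spanFinrank + n := by
  classical
  have hfg : (maximalIdeal Λ).FG := IsNoetherian.noetherian _
  set s := Submodule.generators (maximalIdeal Λ) with hs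
  have hsfin : s.Finite := Submodule.FG.finite_generators hfg
  have hscard : s.ncard = (maximalIdeal Λ).spanFinrank := Submodule.FG.generators_ncard hfg
  have hsspan : Ideal.span s = maximalIdeal Λ := Submodule.span_generators _
  have h1 : maximalIdeal (MvPowerSeries (Fin n) Λ) =
      Ideal.span ((C : Λ →+* MvPowerSeries (Fin n) Λ) '' s ∪
        Set.range (X : Fin n → MvPowerSeries (Fin n) Λ)) := by
    rw [Cohen2.maximalIdeal_mvPowerSeries, ← hsspan, Ideal.map_span,
      Groth.Agent.H5.CA.ker_constantCoeff_eq_span, ← Ideal.span_union]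
  have hfin : ((C : Λ →+* MvPowerSeries (Fin n) Λ) '' s ∪
      Set.range (X : Fin n → MvPowerSeries (Fin n) Λ)).Finite :=
    (hsfin.image _).union (Set.finite_range _)
  rw [h1]
  refine (Submodule.spanFinrank_span_le_ncard_of_finite hfin).trans ?_
  refine (Set.ncard_union_le _ _).trans ?_
  have h2 : ((C : Λ →+* MvPowerSeries (Fin n) Λ) '' s).ncard ≤ s.ncard :=
    Set.ncard_image_le hsfin
  have h3 : (Set.range (X : Fin n → MvPowerSeries (Fin n) Λ)).ncard ≤ n := by
    calc (Set.range (X : Fin n → MvPowerSeries (Fin n) Λ)).ncard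
        ≤ Nat.card (Fin n) := by
          rw [← Set.image_univ]
          refine (Set.ncard_image_le (Set.finite_univ)).trans ?_
          rw [Set.ncard_univ]
      _ = n := by simp
  omega

/-- power series over a regular local ring: regular of dimension `dim Λ + n`. -/
theorem isRegularLocalRing_mvPowerSeries (Λ : Type u) [CommRing Λ] [IsRegularLocalRing Λ] (n : ℕ) :
    IsRegularLocalRing (MvPowerSeries (Fin n) Λ) ∧
      ringKrullDim (MvPowerSeries (Fin n) Λ) = ringKrullDim Λ + (n : WithBot ℕ∞) := by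
  have h1 := spanFinrank_maximalIdeal_mvPowerSeries_le Λ n
  have h2 : ((maximalIdeal Λ).spanFinrank : WithBot ℕ∞) = ringKrullDim Λ :=
    IsRegularLocalRing.spanFinrank_maximalIdeal
  have h3 := Groth.Agent.H5.CF.ringKrullDim_add_le_mvPowerSeries Λ n
  have h4 : ((maximalIdeal (MvPowerSeries (Fin n) Λ)).spanFinrank : WithBot ℕ∞) ≤
      ringKrullDim Λ + (n : WithBot ℕ∞) := by
    rw [← h2]
    exact_mod_cast h1
  have h5 := ringKrullDim_le_spanFinrank_maximalIdeal (MvPowerSeries (Fin n) Λ)
  exact ⟨IsRegularLocalRing.of_spanFinrank_maximalIdeal_le _ (h4.trans h3),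
    le_antisymm (h5.trans h4) h3⟩

end Groth.Agent.H5.FSm
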