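import Mathlib
import Groth.Agent.Lib.Helper5.CA.CZ7
import Groth.Agent.Lib.Helper5.CA.Cohen5
import Groth.Agent.Lib.Helper5.CA.Cohen8
import Groth.Agent.Lib.Helper5.FSm.PSReg

set_option autoImplicit false
universe u

open IsLocalRing

namespace Groth.Agent.H5.FSm

/-- dimension of the coefficient ring in residue characteristic `q`. -/
def cd (q : ℕ) : ℕ := if q = 0 then 0 else 1

/-- Coefficient ring for a field of characteristic `q`: the field itself in characteristic zero,
a Cohen ring otherwise. -/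
theorem exists_coefRing (k : Type u) [Field k] (q : ℕ) [CharP k q] :
    ∃ (Λ : Type u) (_ : CommRing Λ) (_ : IsLocalRing Λ) (u : Λ →+* k),
      EGA41.IsCohenRingEGA Λ ∧ Function.Surjective u ∧
      maximalIdeal Λ = Ideal.span {(q : Λ)} ∧
      (q = 0 → IsField Λ) ∧ (q ≠ 0 → CAlg.IsCohenRing Λ) := by
  by_cases hq : q = 0
  · subst hq
    haveI : CharZero k := CharP.charP_to_charZero k
    refine ⟨k, inferInstance, inferInstance, RingHom.id k, Or.inl ⟨Field.toIsField k, inferInstance⟩,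
      Function.surjective_id, ?_, fun _ => Field.toIsField k, fun h => absurd rfl h⟩
    rw [IsLocalRing.maximalIdeal_eq_bot, Nat.cast_zero]
    exact (Ideal.span_singleton_eq_bot.mpr rfl).symm
  · have hqp : q.Prime := (CharP.char_is_prime_or_zero k q).resolve_right hq
    haveI : Fact q.Prime := ⟨hqp⟩
    obtain ⟨Λ, _, _, hΛ, ⟨ε⟩⟩ := CohenZorn.exists_cohenRing q k
    obtain ⟨hdom, hdvr, hc, p, hp, hm⟩ := hΛ
    have hpq : q = p := Cohen8.charP_eq_of_isCohenRing hp hm q (ε : ResidueField Λ →+* k)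
    subst hpq
    refine ⟨Λ, inferInstance, inferInstance, (ε : ResidueField Λ →+* k).comp (residue Λ),
      Or.inr ⟨hdom, hdvr, hc, q, hp, hm⟩, ?_, hm, fun h => absurd h hq,
      fun _ => ⟨hdom, hdvr, hc, q, hp, hm⟩⟩
    intro y
    obtain ⟨x, hx⟩ := residue_surjective (ε.symm y)
    exact ⟨x, by simp [hx]⟩

/-- properties of a coefficient ring. -/
theorem coefRing_props {Λ : Type u} [CommRing Λ] [IsLocalRing Λ] (q : ℕ)
    (h0 : q = 0 → IsField Λ) (h1 : q ≠ 0 → CAlg.IsCohenRing Λ) :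
    IsRegularLocalRing Λ ∧ ringKrullDim Λ = (cd q : WithBot ℕ∞) := by
  by_cases hq : q = 0
  · have hf := h0 hq
    letI := hf.toField
    refine ⟨inferInstance, ?_⟩
    rw [cd, if_pos hq, ringKrullDim_eq_zero_of_isField hf]
    rfl
  · obtain ⟨hdom, hdvr, -, -⟩ := h1 hq
    refine ⟨inferInstance, ?_⟩
    rw [cd, if_neg hq, IsPrincipalIdealRing.ringKrullDim_eq_one Λ
      (IsDiscreteValuationRing.not_isField Λ)]
    rfl

end Groth.Agent.H5.FSm
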