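import Mathlib
import Groth.Agent.S2082
import Groth.Agent.Lib.Helper1.CMFlat

set_option autoImplicit false
universe u

open IsLocalRing

namespace Groth.Agent.H5.FSm

/-- the Krull dimension of a Noetherian local ring is a natural number. -/
theorem exists_nat_ringKrullDim (F : Type*) [CommRing F] [IsLocalRing F] [IsNoetherianRing F] :
    ∃ e : ℕ, ringKrullDim F = (e : WithBot ℕ∞) := by
  have h1 : (maximalIdeal F).height ≠ ⊤ := Ideal.height_ne_top (Ideal.IsPrime.ne_top inferInstance)
  refine ⟨(maximalIdeal F).height.toNat, ?_⟩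
  rw [← IsLocalRing.maximalIdeal_height_eq_ringKrullDim]
  have := ENat.coe_toNat h1
  exact_mod_cast congrArg (fun x : ℕ∞ => (x : WithBot ℕ∞)) this.symm

/-- **Flatness by dimension count**: a local homomorphism of regular local rings such that the
closed fibre's maximal ideal is generated by `r ≤ dim S - dim R` elements is flat, with regular
closed fibre of dimension `r`. -/
theorem flat_of_regular_of_dim {R S : Type u} [CommRing R] [CommRing S] [IsRegularLocalRing R]
    [IsRegularLocalRing S] [Algebra R S] [IsLocalHom (algebraMap R S)] {r : ℕ} (y : Fin r → S)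
    (hy : maximalIdeal S = (maximalIdeal R).map (algebraMap R S) ⊔ Ideal.span (Set.range y))
    (hdim : ringKrullDim R + (r : WithBot ℕ∞) ≤ ringKrullDim S) :
    Module.Flat R S ∧
      ∃ (_ : IsLocalRing (S ⧸ (maximalIdeal R).map (algebraMap R S))),
        IsRegularLocalRing (S ⧸ (maximalIdeal R).map (algebraMap R S)) ∧
        ringKrullDim (S ⧸ (maximalIdeal R).map (algebraMap R S)) = (r : WithBot ℕ∞) := by
  classical
  set I := (maximalIdeal R).map (algebraMap R S) with hI
  have hIle : I ≤ maximalIdeal S := IsLocalRing.map_maximalIdeal_le (algebraMap R S)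
  have hItop : I ≠ ⊤ := fun h => (Ideal.IsPrime.ne_top (inferInstance :
    (maximalIdeal S).IsPrime)) (top_le_iff.mp (h ▸ hIle))
  haveI : Nontrivial (S ⧸ I) := Ideal.Quotient.nontrivial_iff.mpr hItop
  haveI hloc : IsLocalRing (S ⧸ I) :=
    IsLocalRing.of_surjective' (Ideal.Quotient.mk I) Ideal.Quotient.mk_surjective
  -- the maximal ideal of the fibre
  have hmF : maximalIdeal (S ⧸ I) = Ideal.span (Set.range (Ideal.Quotient.mk I ∘ y)) := by
    rw [← IsLocalRing.map_maximalIdeal_of_surjective (Ideal.Quotient.mk I)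
      Ideal.Quotient.mk_surjective, hy, Ideal.map_sup, Ideal.map_quotient_self, bot_sup_eq,
      Ideal.map_span, Set.range_comp]
  have hspanF : (maximalIdeal (S ⧸ I)).spanFinrank ≤ r := by
    rw [hmF]
    refine (Submodule.spanFinrank_span_le_ncard_of_finite (Set.finite_range _)).trans ?_
    calc (Set.range (Ideal.Quotient.mk I ∘ y)).ncard ≤ Nat.card (Fin r) := by
          rw [← Set.image_univ]
          refine (Set.ncard_image_le (Set.finite_univ)).trans ?_
          rw [Set.ncard_univ]
      _ = r := by simp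
  have hdimF_le : ringKrullDim (S ⧸ I) ≤ ((maximalIdeal (S ⧸ I)).spanFinrank : WithBot ℕ∞) :=
    ringKrullDim_le_spanFinrank_maximalIdeal _
  -- lower bound
  have hjac : I ≤ Ring.jacobson S := by
    rw [IsLocalRing.ringJacobson_eq_maximalIdeal]
    exact hIle
  have h1 := ringKrullDim_le_ringKrullDim_quotient_add_spanFinrank I hjac
  have h2 : I.spanFinrank ≤ (maximalIdeal R).spanFinrank :=
    Ideal.spanFinrank_map_le_of_fg _ (IsNoetherian.noetherian _)
  have hR : ((maximalIdeal R).spanFinrank : WithBot ℕ∞) = ringKrullDim R :=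
    IsRegularLocalRing.spanFinrank_maximalIdeal
  obtain ⟨e, he⟩ := exists_nat_ringKrullDim (S ⧸ I)
  set d := (maximalIdeal R).spanFinrank with hd
  have h3 : ((d + r : ℕ) : WithBot ℕ∞) ≤ ((e + I.spanFinrank : ℕ) : WithBot ℕ∞) := by
    have := hdim.trans h1
    rw [← hR, he] at this
    exact_mod_cast this
  have h3' : d + r ≤ e + I.spanFinrank := by exact_mod_cast h3
  have h4 : e ≤ (maximalIdeal (S ⧸ I)).spanFinrank := by
    rw [he] at hdimF_le
    exact_mod_cast hdimF_le
  have her : e = r := by omega
  have hsp : (maximalIdeal (S ⧸ I)).spanFinrank = r := by omega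
  have hIsp : I.spanFinrank = d := by omega
  have hreg : IsRegularLocalRing (S ⧸ I) := by
    apply IsRegularLocalRing.of_spanFinrank_maximalIdeal_le
    rw [he, hsp, her]
  have hdimS : ringKrullDim S = ringKrullDim R + ringKrullDim (S ⧸ I) := by
    refine le_antisymm ?_ ?_
    · rw [he, ← hR, her, add_comm]
      refine h1.trans ?_
      rw [he, her, hIsp]
    · rw [he, her]; exact hdim
  haveI := Groth.Agent.H1.CMFlat.isCohenMacaulayLocalRing_of_isRegularLocalRing S
  refine ⟨Groth.Agent.S2082.result hdimS, hloc, hreg, ?_⟩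
  rw [he, her]

end Groth.Agent.H5.FSm
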