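import Mathlib
import Groth.Agent.Lib.Helper5.FSm.Coef
import Groth.Agent.Lib.Helper5.FSm.FlatReg
import Groth.Agent.Lib.Helper5.CA.Cohen9
import Groth.Agent.Lib.Helper5.CA.Cohen4
import Groth.Agent.Lib.Helper5.CA.CF1
import Groth.Agent.Lib.Helper5.CA.PSExt

set_option autoImplicit false
universe u

open IsLocalRing MvPowerSeries

namespace Groth.Agent.H5.FSm

/-- a ring hom whose composite with another ring hom is local is local. -/
theorem isLocalHom_of_comp' {R S T : Type*} [CommRing R] [CommRing S] [CommRing T]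
    (f : R →+* S) (g : S →+* T) [IsLocalHom (g.comp f)] : IsLocalHom f :=
  ⟨fun a ha => IsLocalHom.map_nonunit (f := g.comp f) a (ha.map g)⟩

/-- the natural number `q` lies in the maximal ideal of the power series ring over a coefficient
ring whose maximal ideal is generated by `q`. -/
theorem natCast_mem_maximalIdeal_mvPowerSeries {Λ : Type u} [CommRing Λ] [IsLocalRing Λ] (q n : ℕ)
    (hm : maximalIdeal Λ = Ideal.span {(q : Λ)}) :
    (q : MvPowerSeries (Fin n) Λ) ∈ maximalIdeal (MvPowerSeries (Fin n) Λ) := by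
  rw [Cohen2.maximalIdeal_mvPowerSeries]
  refine Ideal.mem_sup_left ?_
  have : (q : MvPowerSeries (Fin n) Λ) = C (q : Λ) := by rw [map_natCast]
  rw [this]
  refine Ideal.mem_map_of_mem _ ?_
  rw [hm]
  exact Ideal.mem_span_singleton_self _

theorem maximalIdeal_mvPowerSeries_eq_span {Λ : Type u} [CommRing Λ] [IsLocalRing Λ] (q n : ℕ)
    (hm : maximalIdeal Λ = Ideal.span {(q : Λ)}) :
    maximalIdeal (MvPowerSeries (Fin n) Λ) =
      Ideal.span {(q : MvPowerSeries (Fin n) Λ)} ⊔
        Ideal.span (Set.range (X : Fin n → MvPowerSeries (Fin n) Λ)) := by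
  rw [Cohen2.maximalIdeal_mvPowerSeries, hm, Ideal.map_span, Set.image_singleton,
    Groth.Agent.H5.CA.ker_constantCoeff_eq_span, map_natCast]


/-- **Cohen diagram** (cf. Stacks 07NN, EGA 0_IV 19.8.8): a local homomorphism of complete
Noetherian local rings is covered by a flat local homomorphism of power series rings over
coefficient rings, with regular closed fibre. -/
theorem exists_cohen_diagram {A B : Type u} [CommRing A] [CommRing B] [IsLocalRing A]
    [IsLocalRing B] [IsNoetherianRing A] [IsNoetherianRing B]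
    [IsAdicComplete (maximalIdeal A) A] [IsAdicComplete (maximalIdeal B) B]
    [Algebra A B] [IsLocalHom (algebraMap A B)] {m : ℕ} (b : Fin m → B)
    (hb : maximalIdeal B = (maximalIdeal A).map (algebraMap A B) ⊔ Ideal.span (Set.range b))
    (q : ℕ) [CharP (ResidueField A) q] :
    ∃ (Λ Λ' : Type u) (_ : CommRing Λ) (_ : CommRing Λ') (_ : IsLocalRing Λ)
      (_ : IsLocalRing Λ') (n : ℕ)
      (ρ : MvPowerSeries (Fin n) Λ →+* A) (σ : MvPowerSeries (Fin (m + n)) Λ' →+* B)
      (τ : MvPowerSeries (Fin n) Λ →+* MvPowerSeries (Fin (m + n)) Λ'),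
      (q = 0 → IsField Λ ∧ IsField Λ') ∧ (q ≠ 0 → CAlg.IsCohenRing Λ ∧ CAlg.IsCohenRing Λ') ∧
      IsRegularLocalRing (MvPowerSeries (Fin n) Λ) ∧
      IsRegularLocalRing (MvPowerSeries (Fin (m + n)) Λ') ∧
      IsAdicComplete (maximalIdeal (MvPowerSeries (Fin (m + n)) Λ'))
        (MvPowerSeries (Fin (m + n)) Λ') ∧
      Function.Surjective ρ ∧ Function.Surjective σ ∧ σ.comp τ = (algebraMap A B).comp ρ ∧
      (∀ j : Fin m, σ (X (Fin.castAdd n j)) = b j) ∧
      IsLocalHom τ ∧ τ.Flat ∧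
      ∃ (_ : IsLocalRing (MvPowerSeries (Fin (m + n)) Λ' ⧸
          (maximalIdeal (MvPowerSeries (Fin n) Λ)).map τ)),
        IsRegularLocalRing (MvPowerSeries (Fin (m + n)) Λ' ⧸
          (maximalIdeal (MvPowerSeries (Fin n) Λ)).map τ) ∧
        ringKrullDim (MvPowerSeries (Fin (m + n)) Λ' ⧸
          (maximalIdeal (MvPowerSeries (Fin n) Λ)).map τ) = (m : WithBot ℕ∞) := by
  classical
  haveI : CharP (ResidueField B) q :=
    charP_of_injective_ringHom (algebraMap (ResidueField A) (ResidueField B)).injective q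
  obtain ⟨Λ, _, _, u, hΛ, hu, hmΛ, hΛ0, hΛ1⟩ := exists_coefRing (ResidueField A) q
  obtain ⟨Λ', _, _, u', hΛ', hu', hmΛ', hΛ'0, hΛ'1⟩ := exists_coefRing (ResidueField B) q
  haveI : IsLocalHom u := hu.isLocalHom
  haveI : IsLocalHom u' := hu'.isLocalHom
  obtain ⟨v, hv⟩ := Cohen9.exists_lift_residue hΛ u
  obtain ⟨v', hv'⟩ := Cohen9.exists_lift_residue hΛ' u'
  -- generators of the maximal ideal of `A`
  obtain ⟨n, a, ha⟩ := Submodule.fg_iff_exists_fin_generating_family.mp
    (IsNoetherian.noetherian (maximalIdeal A))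
  have ha' : Ideal.span (Set.range a) = maximalIdeal A := ha
  letI algΛA : Algebra Λ A := v.toAlgebra
  have hKA : Function.Surjective ((residue A).comp (algebraMap Λ A)) := by
    show Function.Surjective ((residue A).comp v)
    rw [hv]; exact hu
  obtain ⟨ρ, hρs, hρX⟩ := Groth.Agent.H5.CF.exists_surjective_of_gens Λ A a ha' hKA
  -- generators of the maximal ideal of `B`
  let c : Fin (m + n) → B := Fin.append b (algebraMap A B ∘ a)
  have hcl : ∀ j : Fin m, c (Fin.castAdd n j) = b j := fun j => Fin.append_left _ _ j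
  have hcr : ∀ i : Fin n, c (Fin.natAdd m i) = algebraMap A B (a i) := fun i =>
    Fin.append_right _ _ i
  have hc : Ideal.span (Set.range c) = maximalIdeal B := by
    apply le_antisymm
    · rw [Ideal.span_le]
      rintro _ ⟨l, rfl⟩
      refine Fin.addCases (fun j => ?_) (fun i => ?_) l
      · rw [hcl, SetLike.mem_coe, hb]
        exact Ideal.mem_sup_right (Ideal.subset_span ⟨j, rfl⟩)
      · rw [hcr, SetLike.mem_coe, hb]
        refine Ideal.mem_sup_left (Ideal.mem_map_of_mem _ ?_)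
        rw [← ha']
        exact Ideal.subset_span ⟨i, rfl⟩
    · rw [hb, ← ha', Ideal.map_span, sup_le_iff]
      constructor
      · rw [Ideal.span_le]
        rintro _ ⟨_, ⟨i, rfl⟩, rfl⟩
        rw [← hcr]
        exact Ideal.subset_span ⟨_, rfl⟩
      · rw [Ideal.span_le]
        rintro _ ⟨j, rfl⟩
        rw [← hcl]
        exact Ideal.subset_span ⟨_, rfl⟩
  letI algΛ'B : Algebra Λ' B := v'.toAlgebra
  have hKB : Function.Surjective ((residue B).comp (algebraMap Λ' B)) := by
    show Function.Surjective ((residue B).comp v')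
    rw [hv']; exact hu'
  obtain ⟨σ, hσs, hσX⟩ := Groth.Agent.H5.CF.exists_surjective_of_gens Λ' B c hc hKB
  -- regularity and completeness
  obtain ⟨regΛ, dimΛ⟩ := coefRing_props (Λ := Λ) q hΛ0 hΛ1
  obtain ⟨regΛ', dimΛ'⟩ := coefRing_props (Λ := Λ') q hΛ'0 hΛ'1
  haveI compΛ' : IsAdicComplete (maximalIdeal Λ') Λ' :=
    Cohen5.isAdicComplete_of_isCohenRingEGA hΛ'
  obtain ⟨regR, dimR⟩ := isRegularLocalRing_mvPowerSeries Λ n
  obtain ⟨regS, dimS⟩ := isRegularLocalRing_mvPowerSeries Λ' (m + n)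
  haveI compS : IsAdicComplete (maximalIdeal (MvPowerSeries (Fin (m + n)) Λ'))
      (MvPowerSeries (Fin (m + n)) Λ') := isAdicComplete_maximalIdeal_mvPowerSeries Λ' (m + n)
  -- lifting `Λ → B` to the power series ring
  let J : Ideal (MvPowerSeries (Fin (m + n)) Λ') := RingHom.ker σ.toRingHom
  have hJ : J ≠ ⊤ := RingHom.ker_ne_top _
  let eJ : (MvPowerSeries (Fin (m + n)) Λ' ⧸ J) ≃+* B :=
    RingHom.quotientKerEquivOfSurjective (f := σ.toRingHom) hσs
  haveI : IsLocalRing (MvPowerSeries (Fin (m + n)) Λ' ⧸ J) := eJ.symm.isLocalRing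
  haveI : IsLocalHom ((residue A).comp v) := by rw [hv]; infer_instance
  haveI : IsLocalHom v := isLocalHom_of_comp' v (residue A)
  let lB : Λ →+* (MvPowerSeries (Fin (m + n)) Λ' ⧸ J) :=
    (eJ.symm : B →+* _).comp ((algebraMap A B).comp v)
  haveI : IsLocalHom lB := by
    refine ⟨fun x hx => ?_⟩
    have h1 : IsUnit (algebraMap A B (v x)) := by
      have := hx.map (eJ : _ →+* B)
      simpa [lB] using this
    exact IsLocalHom.map_nonunit (f := v) x (IsLocalHom.map_nonunit (f := algebraMap A B) _ h1)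
  obtain ⟨w, hwloc, hw⟩ := Cohen4.exists_lift_cohenRing hΛ J hJ lB
  have hσw : ∀ x, σ (w x) = algebraMap A B (v x) := by
    intro x
    have h1 : Ideal.Quotient.mk J (w x) = lB x := congrArg (fun φ => φ x) hw
    have h2 : eJ (Ideal.Quotient.mk J (w x)) = eJ (lB x) := congrArg eJ h1
    have h3 : eJ (Ideal.Quotient.mk J (w x)) = σ (w x) := rfl
    have h4 : eJ (lB x) = algebraMap A B (v x) := eJ.apply_symm_apply _
    rw [← h3, h2, h4]
  -- the map `τ`
  letI algΛS : Algebra Λ (MvPowerSeries (Fin (m + n)) Λ') := w.toAlgebra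
  have hXmem : ∀ l : Fin (m + n), (X l : MvPowerSeries (Fin (m + n)) Λ') ∈
      maximalIdeal (MvPowerSeries (Fin (m + n)) Λ') := by
    intro l
    rw [Cohen2.maximalIdeal_mvPowerSeries, Groth.Agent.H5.CA.ker_constantCoeff_eq_span]
    exact Ideal.mem_sup_right (Ideal.subset_span ⟨_, rfl⟩)
  obtain ⟨τ, hτX⟩ := Groth.Agent.H5.CA.exists_algHom_mvPowerSeries' Λ
    (MvPowerSeries (Fin (m + n)) Λ') (maximalIdeal (MvPowerSeries (Fin (m + n)) Λ'))
    (fun i : Fin n => (X (Fin.natAdd m i) : MvPowerSeries (Fin (m + n)) Λ'))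
    (fun i => hXmem _)
  -- commutativity
  letI algΛB : Algebra Λ B := ((algebraMap A B).comp v).toAlgebra
  let f₁ : MvPowerSeries (Fin n) Λ →ₐ[Λ] B :=
    { toRingHom := σ.toRingHom.comp τ.toRingHom
      commutes' := fun r => by
        show σ (τ (algebraMap Λ _ r)) = algebraMap A B (v r)
        rw [τ.commutes]
        exact hσw r }
  let f₂ : MvPowerSeries (Fin n) Λ →ₐ[Λ] B :=
    { toRingHom := (algebraMap A B).comp ρ.toRingHom
      commutes' := fun r => by
        show algebraMap A B (ρ (algebraMap Λ _ r)) = algebraMap A B (v r)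
        rw [ρ.commutes]
        rfl }
  have hf₁X : ∀ i, f₁ (X i) = algebraMap A B (a i) := by
    intro i
    show σ (τ (X i)) = _
    rw [hτX, hσX, hcr]
  have hf₂X : ∀ i, f₂ (X i) = algebraMap A B (a i) := by
    intro i
    show algebraMap A B (ρ (X i)) = _
    rw [hρX]
  have hf : f₁ = f₂ := by
    refine Groth.Agent.H5.CA.algHom_ext_of_isHausdorff (maximalIdeal B) f₁ f₂ (fun i => ?_)
      (fun i => by rw [hf₁X, hf₂X])
    rw [hf₁X, ← hcr, ← hc]
    exact Ideal.subset_span ⟨_, rfl⟩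
  have hcomm : σ.toRingHom.comp τ.toRingHom = (algebraMap A B).comp ρ.toRingHom := by
    ext x
    exact congrArg (fun φ : MvPowerSeries (Fin n) Λ →ₐ[Λ] B => φ x) hf
  -- `τ` is local
  haveI hρloc : IsLocalHom ρ.toRingHom := Function.Surjective.isLocalHom _ hρs
  haveI : IsLocalHom ((algebraMap A B).comp ρ.toRingHom) := RingHom.isLocalHom_comp _ _
  haveI : IsLocalHom (σ.toRingHom.comp τ.toRingHom) := by rw [hcomm]; infer_instance
  haveI hτloc : IsLocalHom τ.toRingHom := isLocalHom_of_comp' τ.toRingHom σ.toRingHom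
  -- flatness by dimension count
  letI algRS : Algebra (MvPowerSeries (Fin n) Λ) (MvPowerSeries (Fin (m + n)) Λ') :=
    τ.toRingHom.toAlgebra
  haveI : IsLocalHom (algebraMap (MvPowerSeries (Fin n) Λ) (MvPowerSeries (Fin (m + n)) Λ')) :=
    hτloc
  have hy : maximalIdeal (MvPowerSeries (Fin (m + n)) Λ') =
      (maximalIdeal (MvPowerSeries (Fin n) Λ)).map
        (algebraMap (MvPowerSeries (Fin n) Λ) (MvPowerSeries (Fin (m + n)) Λ')) ⊔
      Ideal.span (Set.range (fun j : Fin m =>
        (X (Fin.castAdd n j) : MvPowerSeries (Fin (m + n)) Λ'))) := by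
    apply le_antisymm
    · rw [maximalIdeal_mvPowerSeries_eq_span q (m + n) hmΛ', sup_le_iff]
      constructor
      · rw [Ideal.span_le, Set.singleton_subset_iff, SetLike.mem_coe]
        refine Ideal.mem_sup_left ?_
        have h1 : (q : MvPowerSeries (Fin (m + n)) Λ') =
            algebraMap (MvPowerSeries (Fin n) Λ) (MvPowerSeries (Fin (m + n)) Λ')
              (q : MvPowerSeries (Fin n) Λ) := (map_natCast _ q).symm
        rw [h1]
        exact Ideal.mem_map_of_mem _ (natCast_mem_maximalIdeal_mvPowerSeries q n hmΛ)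
      · rw [Ideal.span_le]
        rintro _ ⟨l, rfl⟩
        refine Fin.addCases (fun j => ?_) (fun i => ?_) l
        · exact Ideal.mem_sup_right (Ideal.subset_span ⟨j, rfl⟩)
        · refine Ideal.mem_sup_left ?_
          have h1 : (X (Fin.natAdd m i) : MvPowerSeries (Fin (m + n)) Λ') =
              algebraMap (MvPowerSeries (Fin n) Λ) (MvPowerSeries (Fin (m + n)) Λ') (X i) :=
            (hτX i).symm
          rw [h1]
          refine Ideal.mem_map_of_mem _ ?_
          rw [Cohen2.maximalIdeal_mvPowerSeries, Groth.Agent.H5.CA.ker_constantCoeff_eq_span]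
          exact Ideal.mem_sup_right (Ideal.subset_span ⟨_, rfl⟩)
    · rw [sup_le_iff]
      refine ⟨IsLocalRing.map_maximalIdeal_le _, ?_⟩
      rw [Ideal.span_le]
      rintro _ ⟨j, rfl⟩
      exact hXmem _
  have hdim : ringKrullDim (MvPowerSeries (Fin n) Λ) + (m : WithBot ℕ∞) ≤
      ringKrullDim (MvPowerSeries (Fin (m + n)) Λ') := by
    rw [dimR, dimS, dimΛ, dimΛ']
    exact_mod_cast (by omega : cd q + n + m ≤ cd q + (m + n))
  obtain ⟨hflat, hloc, hregF, hdimF⟩ := flat_of_regular_of_dim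
    (R := MvPowerSeries (Fin n) Λ) (S := MvPowerSeries (Fin (m + n)) Λ')
    (fun j : Fin m => (X (Fin.castAdd n j) : MvPowerSeries (Fin (m + n)) Λ')) hy hdim
  refine ⟨Λ, Λ', inferInstance, inferInstance, inferInstance, inferInstance, n, ρ.toRingHom,
    σ.toRingHom, τ.toRingHom, fun h => ⟨hΛ0 h, hΛ'0 h⟩, fun h => ⟨hΛ1 h, hΛ'1 h⟩, regR, regS, compS,
    hρs, hσs, hcomm, fun j => ?_, hτloc, ?_, hloc, hregF, hdimF⟩
  · show σ (X (Fin.castAdd n j)) = b j
    rw [hσX, hcl]
  · exact RingHom.flat_algebraMap_iff.mpr hflat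

end Groth.Agent.H5.FSm
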