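import Mathlib
import Groth.Agent.Lib.Helper5.FSm.CDiag
import Groth.Agent.Lib.Helper5.CA.Nilp031L
import Groth.Agent.Lib.Helper6.CompleteNoeth
import Groth.Agent.Lib.Helper7.Reg1
import Groth.Agent.S0543

set_option autoImplicit false
universe u

open IsLocalRing TensorProduct

namespace Groth.Agent.H5.FSm

/-- a surjection from a Noetherian local domain onto a ring of at least the same (finite)
dimension is injective. -/
theorem injective_of_surjective_of_dim_le {F B : Type*} [CommRing F] [IsDomain F] [IsLocalRing F]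
    [IsNoetherianRing F] [CommRing B] (f : F →+* B) (hf : Function.Surjective f)
    (hdim : ringKrullDim F ≤ ringKrullDim B) : Function.Injective f := by
  rw [injective_iff_map_eq_zero]
  intro x hx
  by_contra hx0
  have hnzd : x ∈ nonZeroDivisors F := mem_nonZeroDivisors_of_ne_zero hx0
  have h1 := ringKrullDim_quotient_succ_le_of_nonZeroDivisor hnzd
  -- `B` is a quotient of `F ⧸ (x)`
  let g : F ⧸ Ideal.span {x} →+* B := Ideal.Quotient.lift _ f (by
    intro a ha
    obtain ⟨c, rfl⟩ := Ideal.mem_span_singleton'.mp ha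
    rw [map_mul, hx, mul_zero])
  have hg : Function.Surjective g := by
    intro y
    obtain ⟨a, rfl⟩ := hf y
    exact ⟨Ideal.Quotient.mk _ a, rfl⟩
  have h2 : ringKrullDim B ≤ ringKrullDim (F ⧸ Ideal.span {x}) :=
    ringKrullDim_le_of_surjective g hg
  obtain ⟨e, he⟩ := exists_nat_ringKrullDim F
  have h3 : ringKrullDim F + 1 ≤ ringKrullDim F :=
    le_trans (add_le_add_left (hdim.trans h2) 1) h1
  rw [he] at h3
  have h4 : e + 1 ≤ e := by exact_mod_cast h3
  omega

/-- base change of a flat map along a presentation. -/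
theorem exists_flat_quotient {R A' S : Type*} [CommRing R] [CommRing A'] [CommRing S]
    (ρ : R →+* A') (hρ : Function.Surjective ρ) (τ : R →+* S) (hτ : τ.Flat) :
    ∃ g : A' →+* S ⧸ (RingHom.ker ρ).map τ, g.Flat ∧
      g.comp ρ = (Ideal.Quotient.mk _).comp τ := by
  let eρ : R ⧸ RingHom.ker ρ ≃+* A' := RingHom.quotientKerEquivOfSurjective hρ
  refine ⟨(Ideal.quotientMap ((RingHom.ker ρ).map τ) τ Ideal.le_comap_map).comp
    (eρ.symm : A' →+* R ⧸ RingHom.ker ρ), ?_, ?_⟩
  · exact RingHom.Flat.comp (RingHom.Flat.of_bijective eρ.symm.bijective)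
      (Nilp031L.flat_quotientMap τ hτ _)
  · ext r
    have h1 : eρ.symm (ρ r) = Ideal.Quotient.mk _ r := by
      rw [RingEquiv.symm_apply_eq]
      rfl
    show Ideal.quotientMap _ τ Ideal.le_comap_map (eρ.symm (ρ r)) = _
    rw [h1]
    rfl


/-- a regular system of parameters. -/
theorem exists_regular_parameters (B₀ : Type u) [CommRing B₀] [IsRegularLocalRing B₀] :
    ∃ (m : ℕ) (b : Fin m → B₀), Ideal.span (Set.range b) = maximalIdeal B₀ ∧
      ringKrullDim B₀ = (m : WithBot ℕ∞) := by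
  classical
  have hfg : (maximalIdeal B₀).FG := IsNoetherian.noetherian _
  set s := Submodule.generators (maximalIdeal B₀) with hs
  have hsfin : s.Finite := Submodule.FG.finite_generators hfg
  have hscard : s.ncard = (maximalIdeal B₀).spanFinrank := Submodule.FG.generators_ncard hfg
  have hsspan : Ideal.span s = maximalIdeal B₀ := Submodule.span_generators _
  haveI := hsfin.fintype
  let eq : s ≃ Fin s.ncard := Fintype.equivFinOfCardEq (by
    rw [Set.ncard_eq_toFinset_card', Set.toFinset_card])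
  refine ⟨s.ncard, fun i => (eq.symm i : B₀), ?_, ?_⟩
  · have : Set.range (fun i => (eq.symm i : B₀)) = s := by
      ext x
      constructor
      · rintro ⟨i, rfl⟩
        exact (eq.symm i).2
      · intro hx
        exact ⟨eq ⟨x, hx⟩, by simp⟩
    rw [this, hsspan]
  · rw [hscard]
    exact IsRegularLocalRing.spanFinrank_maximalIdeal.symm


/-- an algebra map killing the maximal ideal is a local homomorphism. -/
theorem isLocalHom_of_kills {A' B₀ : Type*} [CommRing A'] [IsLocalRing A'] [CommRing B₀]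
    [Nontrivial B₀] (f : A' →+* B₀) (h0 : ∀ a ∈ maximalIdeal A', f a = 0) : IsLocalHom f := by
  refine ⟨fun x hx => ?_⟩
  by_contra hxu
  have h1 : x ∈ maximalIdeal A' := (mem_maximalIdeal x).mpr hxu
  rw [h0 x h1] at hx
  exact not_isUnit_zero hx

/-- **Flat lifting over a complete base** (EGA 0_IV 19.7.1.3, complete case). -/
theorem exists_flat_lift_of_complete {A' : Type u} [CommRing A'] [IsLocalRing A']
    [IsNoetherianRing A'] [IsAdicComplete (maximalIdeal A') A']
    (B₀ : Type u) [CommRing B₀] [IsRegularLocalRing B₀] [IsAdicComplete (maximalIdeal B₀) B₀]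
    [Algebra A' B₀] (h0 : ∀ a ∈ maximalIdeal A', algebraMap A' B₀ a = 0) :
    ∃ (C : Type u) (_ : CommRing C) (_ : IsLocalRing C) (_ : IsNoetherianRing C)
      (_ : Algebra A' C) (_ : IsLocalHom (algebraMap A' C)),
      IsAdicComplete (maximalIdeal C) C ∧ Module.Flat A' C ∧
      ∃ π : C →ₐ[A'] B₀, Function.Surjective π ∧
        RingHom.ker π.toRingHom = (maximalIdeal A').map (algebraMap A' C) := by
  classical
  haveI hφloc : IsLocalHom (algebraMap A' B₀) := isLocalHom_of_kills _ h0
  obtain ⟨m, b, hbspan, hm⟩ := exists_regular_parameters B₀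
  have hb : maximalIdeal B₀ =
      (maximalIdeal A').map (algebraMap A' B₀) ⊔ Ideal.span (Set.range b) := by
    have h1 : (maximalIdeal A').map (algebraMap A' B₀) = ⊥ := by
      rw [eq_bot_iff, Ideal.map_le_iff_le_comap]
      intro x hx
      rw [Ideal.mem_comap, Ideal.mem_bot]
      exact h0 x hx
    rw [h1, bot_sup_eq, hbspan]
  obtain ⟨q, hq⟩ := CharP.exists (ResidueField A')
  obtain ⟨Λ, Λ', _, _, _, _, n, ρ, σ, τ, -, -, regR, regS, compS, hρ, hσ, hcomm, -, hτloc, hτflat,
    hFloc, hFreg, hFdim⟩ := exists_cohen_diagram b hb q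
  obtain ⟨g, hgflat, hgρ⟩ := exists_flat_quotient ρ hρ τ hτflat
  haveI hρloc : IsLocalHom ρ := Function.Surjective.isLocalHom _ hρ
  -- `σ` kills `𝔪_R S`
  have hσ𝔐 : (maximalIdeal (MvPowerSeries (Fin n) Λ)).map τ ≤ RingHom.ker σ := by
    rw [Ideal.map_le_iff_le_comap]
    intro r hr
    rw [Ideal.mem_comap, RingHom.mem_ker]
    have h1 : σ (τ r) = algebraMap A' B₀ (ρ r) := congrArg (fun φ => φ r) hcomm
    rw [h1]
    refine h0 _ ?_
    exact IsLocalRing.map_maximalIdeal_le ρ (Ideal.mem_map_of_mem _ hr)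
  -- `ker σ = 𝔪_R S`
  have hkerσ : RingHom.ker σ = (maximalIdeal (MvPowerSeries (Fin n) Λ)).map τ := by
    refine le_antisymm ?_ hσ𝔐
    let σb : (MvPowerSeries (Fin (m + n)) Λ' ⧸
        (maximalIdeal (MvPowerSeries (Fin n) Λ)).map τ) →+* B₀ :=
      Ideal.Quotient.lift _ σ (fun x hx => hσ𝔐 hx)
    have hσbs : Function.Surjective σb := by
      intro y
      obtain ⟨x, rfl⟩ := hσ y
      exact ⟨Ideal.Quotient.mk _ x, rfl⟩
    haveI := hFreg
    haveI : IsDomain (MvPowerSeries (Fin (m + n)) Λ' ⧸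
        (maximalIdeal (MvPowerSeries (Fin n) Λ)).map τ) := Groth.Agent.H7.Reg.isDomain _
    have hinj := injective_of_surjective_of_dim_le σb hσbs (by rw [hFdim, hm])
    intro x hx
    have h1 : σb (Ideal.Quotient.mk _ x) = 0 := hx
    have h2 := (injective_iff_map_eq_zero σb).mp hinj _ h1
    exact Ideal.Quotient.eq_zero_iff_mem.mp h2
  -- the ideal `I`
  have hkerρ : RingHom.ker ρ ≤ maximalIdeal (MvPowerSeries (Fin n) Λ) :=
    le_maximalIdeal (RingHom.ker_ne_top ρ)
  have hI𝔐 : (RingHom.ker ρ).map τ ≤ (maximalIdeal (MvPowerSeries (Fin n) Λ)).map τ :=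
    Ideal.map_mono hkerρ
  have h𝔐 : (maximalIdeal (MvPowerSeries (Fin n) Λ)).map τ ≤
      maximalIdeal (MvPowerSeries (Fin (m + n)) Λ') := IsLocalRing.map_maximalIdeal_le τ
  have hItop : (RingHom.ker ρ).map τ ≠ ⊤ := fun h =>
    (Ideal.IsPrime.ne_top (inferInstance :
      (maximalIdeal (MvPowerSeries (Fin (m + n)) Λ')).IsPrime))
      (top_le_iff.mp (h ▸ hI𝔐.trans h𝔐))
  haveI : Nontrivial (MvPowerSeries (Fin (m + n)) Λ' ⧸ (RingHom.ker ρ).map τ) :=
    Ideal.Quotient.nontrivial_iff.mpr hItop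
  haveI hCloc : IsLocalRing (MvPowerSeries (Fin (m + n)) Λ' ⧸ (RingHom.ker ρ).map τ) :=
    IsLocalRing.of_surjective' (Ideal.Quotient.mk _) Ideal.Quotient.mk_surjective
  haveI := regS
  haveI hCcomp := Groth.Agent.H6.isAdicComplete_quotient ((RingHom.ker ρ).map τ)
  letI algC : Algebra A' (MvPowerSeries (Fin (m + n)) Λ' ⧸ (RingHom.ker ρ).map τ) := g.toAlgebra
  have hgρ' : ∀ r, g (ρ r) = Ideal.Quotient.mk _ (τ r) := fun r => congrArg (fun φ => φ r) hgρ
  -- the projection
  let π₀ : (MvPowerSeries (Fin (m + n)) Λ' ⧸ (RingHom.ker ρ).map τ) →+* B₀ :=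
    Ideal.Quotient.lift _ σ (fun x hx => hσ𝔐 (hI𝔐 hx))
  let π : (MvPowerSeries (Fin (m + n)) Λ' ⧸ (RingHom.ker ρ).map τ) →ₐ[A'] B₀ :=
    { toRingHom := π₀
      commutes' := fun a => by
        obtain ⟨r, rfl⟩ := hρ a
        show π₀ (g (ρ r)) = _
        rw [hgρ']
        exact congrArg (fun φ => φ r) hcomm }
  have hπs : Function.Surjective π := by
    intro y
    obtain ⟨x, rfl⟩ := hσ y
    exact ⟨Ideal.Quotient.mk _ x, rfl⟩
  haveI : IsLocalHom ((π.toRingHom).comp
      (algebraMap A' (MvPowerSeries (Fin (m + n)) Λ' ⧸ (RingHom.ker ρ).map τ))) := by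
    have : (π.toRingHom).comp
        (algebraMap A' (MvPowerSeries (Fin (m + n)) Λ' ⧸ (RingHom.ker ρ).map τ)) =
        algebraMap A' B₀ := by
      ext a
      exact π.commutes a
    rw [this]
    exact hφloc
  haveI hgloc : IsLocalHom
      (algebraMap A' (MvPowerSeries (Fin (m + n)) Λ' ⧸ (RingHom.ker ρ).map τ)) :=
    isLocalHom_of_comp' _ π.toRingHom
  refine ⟨MvPowerSeries (Fin (m + n)) Λ' ⧸ (RingHom.ker ρ).map τ, inferInstance, hCloc,
    inferInstance, algC, hgloc, hCcomp, RingHom.flat_algebraMap_iff.mp hgflat, π, hπs, ?_⟩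
  apply le_antisymm
  · intro x hx
    obtain ⟨s, rfl⟩ := Ideal.Quotient.mk_surjective x
    have h1 : σ s = 0 := hx
    have h2 : s ∈ (maximalIdeal (MvPowerSeries (Fin n) Λ)).map τ := by
      rw [← hkerσ]; exact h1
    have h3 : Ideal.Quotient.mk ((RingHom.ker ρ).map τ) s ∈
        ((maximalIdeal (MvPowerSeries (Fin n) Λ)).map τ).map (Ideal.Quotient.mk _) :=
      Ideal.mem_map_of_mem _ h2
    rw [Ideal.map_map, ← hgρ, ← Ideal.map_map] at h3
    exact Ideal.map_mono (IsLocalRing.map_maximalIdeal_le ρ) h3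
  · rw [Ideal.map_le_iff_le_comap]
    intro a ha
    rw [Ideal.mem_comap, RingHom.mem_ker]
    have := π.commutes a
    rw [h0 a ha] at this
    exact this


/-- **Flat lifting** (EGA 0_IV 19.7.1.3): over a Noetherian local ring `A`, a complete regular
local algebra over the residue field lifts to a complete Noetherian local flat `A`-algebra. -/
theorem exists_flat_lift {A : Type u} [CommRing A] [IsLocalRing A] [IsNoetherianRing A]
    (B₀ : Type u) [CommRing B₀] [IsRegularLocalRing B₀] [IsAdicComplete (maximalIdeal B₀) B₀]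
    [Algebra A B₀] (h0 : ∀ a ∈ maximalIdeal A, algebraMap A B₀ a = 0) :
    ∃ (C : Type u) (_ : CommRing C) (_ : IsLocalRing C) (_ : IsNoetherianRing C)
      (_ : Algebra A C) (_ : IsLocalHom (algebraMap A C)),
      IsAdicComplete (maximalIdeal C) C ∧ Module.Flat A C ∧
      ∃ π : C →ₐ[A] B₀, Function.Surjective π ∧
        RingHom.ker π.toRingHom = (maximalIdeal A).map (algebraMap A C) := by
  haveI : IsNoetherianRing (AdicCompletion (maximalIdeal A) A) := Groth.Agent.S0543.result A _
  have fg : (maximalIdeal A).FG := IsNoetherian.noetherian _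
  let l₀ : A ⧸ maximalIdeal A →+* B₀ :=
    Ideal.Quotient.lift (maximalIdeal A) (algebraMap A B₀) h0
  let φ₀ : AdicCompletion (maximalIdeal A) A →+* B₀ :=
    l₀.comp (AdicCompletion.evalOneₐ (maximalIdeal A)).toRingHom
  have hφ₀a : ∀ a : A, φ₀ (algebraMap A _ a) = algebraMap A B₀ a := by
    intro a
    show l₀ (AdicCompletion.evalOneₐ (maximalIdeal A) (algebraMap A _ a)) = _
    rw [AlgHom.commutes]
    rfl
  have hφ₀m : ∀ x ∈ maximalIdeal (AdicCompletion (maximalIdeal A) A), φ₀ x = 0 := by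
    intro x hx
    rw [AdicCompletion.maximalIdeal_eq_map, ← AdicCompletion.ker_evalOneₐ_eq_map _ fg] at hx
    show l₀ (AdicCompletion.evalOneₐ (maximalIdeal A) x) = 0
    have : AdicCompletion.evalOneₐ (maximalIdeal A) x = 0 := hx
    rw [this, map_zero]
  letI algÂ : Algebra (AdicCompletion (maximalIdeal A) A) B₀ := φ₀.toAlgebra
  haveI : IsScalarTower A (AdicCompletion (maximalIdeal A) A) B₀ :=
    IsScalarTower.of_algebraMap_eq (fun a => (hφ₀a a).symm)
  obtain ⟨C, _, _, _, _, hloc, hcomp, hflat, π, hπs, hπk⟩ :=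
    exists_flat_lift_of_complete (A' := AdicCompletion (maximalIdeal A) A) B₀ hφ₀m
  letI algAC : Algebra A C :=
    ((algebraMap (AdicCompletion (maximalIdeal A) A) C).comp
      (algebraMap A (AdicCompletion (maximalIdeal A) A))).toAlgebra
  haveI : IsScalarTower A (AdicCompletion (maximalIdeal A) A) C :=
    IsScalarTower.of_algebraMap_eq (fun _ => rfl)
  haveI : Module.Flat A C := Module.Flat.trans A (AdicCompletion (maximalIdeal A) A) C
  haveI hlocA : IsLocalHom (algebraMap A C) := by
    show IsLocalHom ((algebraMap (AdicCompletion (maximalIdeal A) A) C).comp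
      (algebraMap A (AdicCompletion (maximalIdeal A) A)))
    exact RingHom.isLocalHom_comp _ _
  refine ⟨C, inferInstance, inferInstance, inferInstance, algAC, hlocA, hcomp, inferInstance,
    π.restrictScalars A, hπs, ?_⟩
  have h1 : (maximalIdeal A).map (algebraMap A C) =
      (maximalIdeal (AdicCompletion (maximalIdeal A) A)).map
        (algebraMap (AdicCompletion (maximalIdeal A) A) C) := by
    rw [AdicCompletion.maximalIdeal_eq_map, Ideal.map_map]
    rfl
  rw [h1, ← hπk]
  rfl

end Groth.Agent.H5.FSm
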