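import Mathlib
import Groth.Agent.Lib.Helper5.FSm.FlatLift
import Groth.Agent.Lib.Helper5.CA.NG36
import Groth.Agent.Lib.Helper5.CA.NG8
import Groth.Agent.Lib.Helper5.CA.Cohen4
import Groth.Agent.Lib.Helper1.LocalCriterion2
import Groth.Agent.Lib.Helper1.RegCompl

set_option autoImplicit false
universe u

open IsLocalRing TensorProduct

namespace Groth.Agent.H5.FSm

section Tensor

variable {A : Type*} [CommRing A] (I : Ideal A) {M : Type*} [AddCommGroup M] [Module A M]

theorem exists_one_tmul (x : (A ⧸ I) ⊗[A] M) : ∃ m : M, x = (1 : A ⧸ I) ⊗ₜ[A] m := by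
  obtain ⟨m, hm⟩ := Submodule.Quotient.mk_surjective _ (TensorProduct.quotTensorEquivQuotSMul M I x)
  refine ⟨m, ?_⟩
  rw [← TensorProduct.quotTensorEquivQuotSMul_symm_mk, hm, LinearEquiv.symm_apply_apply]

theorem one_tmul_eq_zero_iff (m : M) :
    (1 : A ⧸ I) ⊗ₜ[A] m = 0 ↔ m ∈ (I • ⊤ : Submodule A M) := by
  rw [← (TensorProduct.quotTensorEquivQuotSMul M I).map_eq_zero_iff,
    TensorProduct.quotTensorEquivQuotSMul_mk_one_tmul, Submodule.Quotient.mk_eq_zero]

end Tensor

/-- a submodule-like criterion: if `ι ⊗ I` is injective for all ideals `I` and the target is flat,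
then the source is flat. -/
theorem flat_of_injective_lTensor {A : Type u} [CommRing A] {N M : Type*} [AddCommGroup N]
    [Module A N] [AddCommGroup M] [Module A M] [Module.Flat A M] (ι : N →ₗ[A] M)
    (h : ∀ I : Ideal A, Function.Injective (ι.lTensor I)) : Module.Flat A N := by
  rw [Module.Flat.iff_rTensor_injective']
  intro I
  rw [injective_iff_map_eq_zero]
  intro x hx
  have h1 : (LinearMap.rTensor M I.subtype) (ι.lTensor I x) = 0 := by
    rw [← LinearMap.comp_apply, LinearMap.rTensor_comp_lTensor, ← LinearMap.lTensor_comp_rTensor,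
      LinearMap.comp_apply, hx, map_zero]
  have h2 : ι.lTensor I x = 0 :=
    (injective_iff_map_eq_zero _).mp
      (Module.Flat.rTensor_preserves_injective_linearMap _ Subtype.val_injective) _ h1
  exact (injective_iff_map_eq_zero _).mp (h I) _ h2


/-- **EGA 0_IV 19.7.1, (a) ⇒ flat**: a local homomorphism of Noetherian local rings which is
formally smooth for the adic topology is flat. -/
theorem flat_of_isAdicFormallySmooth {A B : Type u} [CommRing A] [CommRing B] [IsLocalRing A]
    [IsLocalRing B] [IsNoetherianRing A] [IsNoetherianRing B] [Algebra A B]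
    [IsLocalHom (algebraMap A B)]
    (h : CAlgX.IsAdicFormallySmooth A B (maximalIdeal B)) : Module.Flat A B := by
  classical
  -- the closed fibre is a regular local ring
  have hle : (maximalIdeal A).map (algebraMap A B) ≤ maximalIdeal B :=
    IsLocalRing.map_maximalIdeal_le _
  haveI : Nontrivial (B ⧸ (maximalIdeal A).map (algebraMap A B)) :=
    Ideal.Quotient.nontrivial_iff.mpr
      (ne_top_of_le_ne_top (maximalIdeal.isMaximal B).ne_top hle)
  haveI : IsLocalRing (B ⧸ (maximalIdeal A).map (algebraMap A B)) :=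
    IsLocalRing.of_surjective' (Ideal.Quotient.mk _) Ideal.Quotient.mk_surjective
  have h1 := H5.NG.isAdicFormallySmooth_quotient_map (maximalIdeal A) (maximalIdeal B) h
  haveI : IsLocalHom (Ideal.Quotient.mk ((maximalIdeal A).map (algebraMap A B))) :=
    (Ideal.Quotient.mk_surjective).isLocalHom
  have hmax : (maximalIdeal B).map (Ideal.Quotient.mk ((maximalIdeal A).map (algebraMap A B))) =
      maximalIdeal (B ⧸ (maximalIdeal A).map (algebraMap A B)) :=
    IsLocalRing.map_maximalIdeal_of_surjective _ Ideal.Quotient.mk_surjective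
  rw [hmax] at h1
  letI : Algebra (ResidueField A) (B ⧸ (maximalIdeal A).map (algebraMap A B)) :=
    Ideal.Quotient.algebraQuotientMapQuotient (p := maximalIdeal A)
  haveI hreg₀ : IsRegularLocalRing (B ⧸ (maximalIdeal A).map (algebraMap A B)) :=
    Groth.Agent.H5.GR.isRegularLocalRing_of_isAdicFormallySmooth (ResidueField A) _ h1
  -- its completion
  haveI : IsRegularRing (B ⧸ (maximalIdeal A).map (algebraMap A B)) :=
    H5.NG.isRegularRing_of_isRegularLocalRing _
  haveI : IsNoetherianRing (AdicCompletion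
      (maximalIdeal (B ⧸ (maximalIdeal A).map (algebraMap A B)))
      (B ⧸ (maximalIdeal A).map (algebraMap A B))) := Groth.Agent.S0543.result _ _
  haveI : IsRegularRing (AdicCompletion
      (maximalIdeal (B ⧸ (maximalIdeal A).map (algebraMap A B)))
      (B ⧸ (maximalIdeal A).map (algebraMap A B))) :=
    Groth.Agent.H1.Reg.isRegularRing_adicCompletion _ _
  haveI : IsRegularLocalRing (AdicCompletion
      (maximalIdeal (B ⧸ (maximalIdeal A).map (algebraMap A B)))
      (B ⧸ (maximalIdeal A).map (algebraMap A B))) :=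
    IsRegularLocalRing.of_isRegularRing_of_isLocalRing _
  have h0 : ∀ a ∈ maximalIdeal A, algebraMap A (AdicCompletion
      (maximalIdeal (B ⧸ (maximalIdeal A).map (algebraMap A B)))
      (B ⧸ (maximalIdeal A).map (algebraMap A B))) a = 0 := by
    intro a ha
    rw [IsScalarTower.algebraMap_apply A (B ⧸ (maximalIdeal A).map (algebraMap A B))]
    have : algebraMap A (B ⧸ (maximalIdeal A).map (algebraMap A B)) a = 0 := by
      show Ideal.Quotient.mk _ (algebraMap A B a) = 0
      exact Ideal.Quotient.eq_zero_iff_mem.mpr (Ideal.mem_map_of_mem _ ha)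
    rw [this, map_zero]
  obtain ⟨C, _, _, _, _, hCloc, hCcomp, hCflat, π, hπs, hπk⟩ := exists_flat_lift
    (AdicCompletion (maximalIdeal (B ⧸ (maximalIdeal A).map (algebraMap A B)))
      (B ⧸ (maximalIdeal A).map (algebraMap A B))) h0
  -- the map to lift
  let κ : B →ₐ[A] AdicCompletion (maximalIdeal (B ⧸ (maximalIdeal A).map (algebraMap A B)))
      (B ⧸ (maximalIdeal A).map (algebraMap A B)) :=
    (IsScalarTower.toAlgHom A (B ⧸ (maximalIdeal A).map (algebraMap A B)) _).comp
      (Ideal.Quotient.mkₐ A _)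
  have hκ : ∀ b, κ b = algebraMap (B ⧸ (maximalIdeal A).map (algebraMap A B)) _
      (Ideal.Quotient.mk _ b) := fun b => rfl
  have hκker : ∀ b, κ b = 0 → b ∈ (maximalIdeal A).map (algebraMap A B) := by
    intro b hb
    rw [hκ] at hb
    have h2 : AdicCompletion.of (maximalIdeal (B ⧸ (maximalIdeal A).map (algebraMap A B)))
        (B ⧸ (maximalIdeal A).map (algebraMap A B)) (Ideal.Quotient.mk _ b) = 0 := hb
    have h3 := (injective_iff_map_eq_zero _).mp (AdicCompletion.of_injective
      (maximalIdeal (B ⧸ (maximalIdeal A).map (algebraMap A B)))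
      (B ⧸ (maximalIdeal A).map (algebraMap A B))) _ h2
    exact Ideal.Quotient.eq_zero_iff_mem.mp h3
  have hJtop : RingHom.ker π ≠ ⊤ := RingHom.ker_ne_top _
  haveI : Nontrivial (C ⧸ RingHom.ker π) := Ideal.Quotient.nontrivial_iff.mpr hJtop
  haveI : IsLocalRing (C ⧸ RingHom.ker π) :=
    IsLocalRing.of_surjective' (Ideal.Quotient.mk _) Ideal.Quotient.mk_surjective
  let eπ : (C ⧸ RingHom.ker π) ≃ₐ[A] AdicCompletion
      (maximalIdeal (B ⧸ (maximalIdeal A).map (algebraMap A B)))
      (B ⧸ (maximalIdeal A).map (algebraMap A B)) :=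
    Ideal.quotientKerAlgEquivOfSurjective hπs
  let u : B →ₐ[A] C ⧸ RingHom.ker π := eπ.symm.toAlgHom.comp κ
  have hu : ∀ b, eπ (u b) = κ b := fun b => eπ.apply_symm_apply _
  haveI : IsLocalHom u.toRingHom := by
    refine ⟨fun b hb => ?_⟩
    have h2 : IsUnit (eπ (u b)) := hb.map eπ
    rw [hu, hκ] at h2
    have h3 := IsLocalHom.map_nonunit
      (f := algebraMap (B ⧸ (maximalIdeal A).map (algebraMap A B)) (AdicCompletion
        (maximalIdeal (B ⧸ (maximalIdeal A).map (algebraMap A B)))
        (B ⧸ (maximalIdeal A).map (algebraMap A B)))) _ h2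
    exact IsLocalHom.map_nonunit
      (f := Ideal.Quotient.mk ((maximalIdeal A).map (algebraMap A B))) b h3
  have hB := (AdicFS.isAdicFormallySmooth_iff_bot (maximalIdeal B)).mp h
  obtain ⟨ι, -, hι⟩ := Cohen4.exists_lift_local hB (RingHom.ker π) hJtop u
  have hπι : ∀ b, π (ι b) = κ b := by
    intro b
    have h2 : Ideal.Quotient.mk (RingHom.ker π) (ι b) = u b := congrArg (fun φ => φ b) hι
    have h3 : eπ (Ideal.Quotient.mk (RingHom.ker π) (ι b)) = π (ι b) := rfl
    rw [← h3, h2, hu]
  -- injectivity modulo the maximal ideal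
  have hres : Function.Injective (ι.toLinearMap.lTensor (A ⧸ maximalIdeal A)) := by
    rw [injective_iff_map_eq_zero]
    intro x hx
    obtain ⟨b, rfl⟩ := exists_one_tmul (maximalIdeal A) x
    rw [LinearMap.lTensor_tmul, one_tmul_eq_zero_iff, Ideal.smul_top_eq_map] at hx
    have h2 : ι b ∈ RingHom.ker π.toRingHom := by rw [hπk]; exact hx
    have h3 : κ b = 0 := by rw [← hπι]; exact h2
    have h4 := hκker b h3
    rw [one_tmul_eq_zero_iff, Ideal.smul_top_eq_map]
    exact h4
  have hP := fun (I : Ideal A) =>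
    Groth.Agent.H1.lTensor_injective_of_lTensor_residue_injective B ι.toLinearMap hres I
  exact flat_of_injective_lTensor ι.toLinearMap hP

end Groth.Agent.H5.FSm
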