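import Mathlib
import Groth.Agent.Lib.Helper5.FSm.Flatness
import Groth.Agent.Lib.Helper5.CA.NG19
import Groth.Agent.Lib.Helper5.CA.NG35
import Groth.Agent.Lib.Helper5.CA.AJ1

set_option autoImplicit false
universe u

open IsLocalRing TensorProduct

namespace Groth.Agent.H5.FSm

section FibreEquiv

variable {A : Type u} [CommRing A] (I : Ideal A) [I.IsMaximal] (B : Type u) [CommRing B]
  [Algebra A B]

/-- `A/I ≅ κ(I)` as `A`-modules, for a maximal ideal `I`. -/
noncomputable def quotResidueEquiv : (A ⧸ I) ≃ₗ[A] I.ResidueField :=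
  LinearEquiv.ofBijective ((Algebra.linearMap (A ⧸ I) I.ResidueField).restrictScalars A)
    I.bijective_algebraMap_quotient_residueField

theorem quotResidueEquiv_one : quotResidueEquiv I 1 = 1 := by
  show algebraMap (A ⧸ I) I.ResidueField 1 = 1
  rw [map_one]

/-- the map `B/IB → κ(I) ⊗ B`. -/
noncomputable def fibreMap : (B ⧸ I.map (algebraMap A B)) →ₐ[A] I.ResidueField ⊗[A] B :=
  Ideal.Quotient.liftₐ (I.map (algebraMap A B))
    (Algebra.TensorProduct.includeRight : B →ₐ[A] I.ResidueField ⊗[A] B) (by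
      intro x hx
      have h1 : I.map (algebraMap A B) ≤ RingHom.ker
          (Algebra.TensorProduct.includeRight : B →ₐ[A] I.ResidueField ⊗[A] B).toRingHom := by
        rw [Ideal.map_le_iff_le_comap]
        intro a ha
        rw [Ideal.mem_comap, RingHom.mem_ker]
        show (1 : I.ResidueField) ⊗ₜ[A] (algebraMap A B a) = 0
        rw [Algebra.algebraMap_eq_smul_one, TensorProduct.tmul_smul, TensorProduct.smul_tmul',
          Algebra.smul_def, mul_one, Ideal.algebraMap_residueField_eq_zero.mpr ha,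
          TensorProduct.zero_tmul]
      exact h1 hx)

theorem fibreMap_mk (b : B) :
    fibreMap I B (Ideal.Quotient.mk _ b) = (1 : I.ResidueField) ⊗ₜ[A] b := rfl

theorem fibreMap_bijective : Function.Bijective (fibreMap I B) := by
  constructor
  · rw [injective_iff_map_eq_zero]
    intro x hx
    obtain ⟨b, rfl⟩ := Ideal.Quotient.mk_surjective x
    rw [fibreMap_mk] at hx
    have h1 : (LinearEquiv.rTensor B (quotResidueEquiv I)).symm
        ((1 : I.ResidueField) ⊗ₜ[A] b) = (1 : A ⧸ I) ⊗ₜ[A] b := by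
      rw [LinearEquiv.symm_apply_eq, LinearEquiv.rTensor_tmul, quotResidueEquiv_one]
    rw [hx, map_zero] at h1
    have h2 := (one_tmul_eq_zero_iff I b).mp h1.symm
    rw [Ideal.smul_top_eq_map] at h2
    exact Ideal.Quotient.eq_zero_iff_mem.mpr h2
  · intro y
    obtain ⟨b, hb⟩ := exists_one_tmul I ((LinearEquiv.rTensor B (quotResidueEquiv I)).symm y)
    refine ⟨Ideal.Quotient.mk _ b, ?_⟩
    rw [fibreMap_mk]
    have := congrArg (LinearEquiv.rTensor B (quotResidueEquiv I)) hb
    rw [LinearEquiv.apply_symm_apply, LinearEquiv.rTensor_tmul, quotResidueEquiv_one] at this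
    exact this.symm

/-- `B/IB ≅ κ(I) ⊗ B`. -/
noncomputable def fibreEquiv : (B ⧸ I.map (algebraMap A B)) ≃ₐ[A] I.ResidueField ⊗[A] B :=
  AlgEquiv.ofBijective (fibreMap I B) (fibreMap_bijective I B)

end FibreEquiv


/-- a ring isomorphism of local rings maps the maximal ideal into the maximal ideal. -/
theorem ringEquiv_mem_maximalIdeal {R S : Type*} [CommRing R] [CommRing S] [IsLocalRing R]
    [IsLocalRing S] (e : R ≃+* S) {x : R} (hx : x ∈ maximalIdeal R) : e x ∈ maximalIdeal S := by
  rw [mem_maximalIdeal, mem_nonunits_iff] at hx ⊢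
  intro h
  apply hx
  have := h.map e.symm
  simpa using this

/-- **Translation of the closed fibre**: geometric regularity of `κ(𝔪) ⊗_A B` over `κ(𝔪)` is adic
formal smoothness of `B/𝔪B` over `A/𝔪`. -/
theorem isGeometricallyRegular_fiber_iff {A B : Type u} [CommRing A] [CommRing B] [IsLocalRing A]
    [IsLocalRing B] [IsNoetherianRing B] [Algebra A B] [IsLocalHom (algebraMap A B)] :
    CAlg.IsGeometricallyRegular (maximalIdeal A).ResidueField ((maximalIdeal A).Fiber B) ↔
      CAlgX.IsAdicFormallySmooth (A ⧸ maximalIdeal A)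
        (B ⧸ (maximalIdeal A).map (algebraMap A B))
        ((maximalIdeal B).map (Ideal.Quotient.mk ((maximalIdeal A).map (algebraMap A B)))) := by
  have hle : (maximalIdeal A).map (algebraMap A B) ≤ maximalIdeal B :=
    IsLocalRing.map_maximalIdeal_le _
  haveI : Nontrivial (B ⧸ (maximalIdeal A).map (algebraMap A B)) :=
    Ideal.Quotient.nontrivial_iff.mpr
      (ne_top_of_le_ne_top (maximalIdeal.isMaximal B).ne_top hle)
  haveI : IsLocalRing (B ⧸ (maximalIdeal A).map (algebraMap A B)) :=
    IsLocalRing.of_surjective' (Ideal.Quotient.mk _) Ideal.Quotient.mk_surjective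
  have hmax : (maximalIdeal B).map (Ideal.Quotient.mk ((maximalIdeal A).map (algebraMap A B))) =
      maximalIdeal (B ⧸ (maximalIdeal A).map (algebraMap A B)) :=
    IsLocalRing.map_maximalIdeal_of_surjective _ Ideal.Quotient.mk_surjective
  rw [hmax]
  let ε := fibreEquiv (maximalIdeal A) B
  haveI : IsLocalRing ((maximalIdeal A).ResidueField ⊗[A] B) := ε.toRingEquiv.isLocalRing
  haveI : IsNoetherianRing ((maximalIdeal A).ResidueField ⊗[A] B) :=
    isNoetherianRing_of_ringEquiv _ ε.toRingEquiv
  let ε' : (B ⧸ (maximalIdeal A).map (algebraMap A B)) ≃ₐ[A ⧸ maximalIdeal A]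
      (maximalIdeal A).ResidueField ⊗[A] B :=
    AlgEquiv.ofRingEquiv (f := ε.toRingEquiv) (by
      intro r
      obtain ⟨a, rfl⟩ := Ideal.Quotient.mk_surjective r
      have h1 : algebraMap (A ⧸ maximalIdeal A) (B ⧸ (maximalIdeal A).map (algebraMap A B))
          (Ideal.Quotient.mk _ a) =
          algebraMap A (B ⧸ (maximalIdeal A).map (algebraMap A B)) a := rfl
      rw [h1]
      have h2 : ε.toRingEquiv (algebraMap A (B ⧸ (maximalIdeal A).map (algebraMap A B)) a) =
          algebraMap A _ a := ε.commutes a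
      rw [h2, IsScalarTower.algebraMap_apply A (A ⧸ maximalIdeal A)]
      rfl)
  show CAlg.IsGeometricallyRegular (maximalIdeal A).ResidueField
    ((maximalIdeal A).ResidueField ⊗[A] B) ↔ _
  rw [H5.NG.isGeometricallyRegular_iff_isAdicFormallySmooth]
  constructor
  · intro h
    have h1 : CAlgX.IsAdicFormallySmooth (A ⧸ maximalIdeal A)
        ((maximalIdeal A).ResidueField ⊗[A] B)
        (maximalIdeal ((maximalIdeal A).ResidueField ⊗[A] B)) :=
      Groth.Agent.H5.AJ.isAdicFormallySmooth_of_isLocalization (nonZeroDivisors (A ⧸ maximalIdeal A)) _ h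
    exact Groth.Agent.H5.AJ.isAdicFormallySmooth_of_equiv ε'.symm _ _
      (fun x hx => ringEquiv_mem_maximalIdeal ε'.symm.toRingEquiv hx) h1
  · intro h
    have h1 : CAlgX.IsAdicFormallySmooth (A ⧸ maximalIdeal A)
        ((maximalIdeal A).ResidueField ⊗[A] B)
        (maximalIdeal ((maximalIdeal A).ResidueField ⊗[A] B)) :=
      Groth.Agent.H5.AJ.isAdicFormallySmooth_of_equiv ε' _ _
        (fun x hx => ringEquiv_mem_maximalIdeal ε'.toRingEquiv hx) h
    exact H5.NG.isAdicFormallySmooth_base_localization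
      (nonZeroDivisors (A ⧸ maximalIdeal A)) _ h1

end Groth.Agent.H5.FSm
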