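import Mathlib
import Groth.Prelude.Def_CAlgX

set_option autoImplicit false
universe u

open IsLocalRing TensorProduct

namespace Groth.Agent.H5.FSm

section Key

variable {A B : Type u} [CommRing A] [CommRing B] [IsLocalRing A] [Algebra A B]
  {T : Type u} [CommRing T] [Algebra A T] (J : Ideal T)

theorem smul_eq_of_mk_eq (hmJ : ∀ a ∈ maximalIdeal A, ∀ j ∈ J, a • j = 0) {a : A}
    (ha : a ∈ maximalIdeal A) {t t' : T}
    (h : Ideal.Quotient.mk J t = Ideal.Quotient.mk J t') : a • t = a • t' := by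
  have h1 : t - t' ∈ J := Ideal.Quotient.eq.mp h
  have h2 := hmJ a ha _ h1
  rw [smul_sub, sub_eq_zero] at h2
  exact h2

/-- the map `𝔪 ⊗ B → T`, `a ⊗ b ↦ a • (any lift of ψ b)`. -/
theorem exists_theta (hmJ : ∀ a ∈ maximalIdeal A, ∀ j ∈ J, a • j = 0) (ψ : B →ₐ[A] T ⧸ J) :
    ∃ Θ : (maximalIdeal A) ⊗[A] B →ₗ[A] T, ∀ (a : maximalIdeal A) (b : B) (t : T),
      Ideal.Quotient.mk J t = ψ b → Θ (a ⊗ₜ b) = (a : A) • t := by
  let sT : T ⧸ J → T := Function.surjInv Ideal.Quotient.mk_surjective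
  have hsT : ∀ y, Ideal.Quotient.mk J (sT y) = y := Function.surjInv_eq _
  let f : (maximalIdeal A) →ₗ[A] B →ₗ[A] T :=
    LinearMap.mk₂ A (fun a b => (a : A) • sT (ψ b))
      (fun a a' b => by
        show ((a + a' : maximalIdeal A) : A) • sT (ψ b) = _
        rw [Submodule.coe_add, add_smul])
      (fun r a b => by
        show ((r • a : maximalIdeal A) : A) • sT (ψ b) = _
        rw [Submodule.coe_smul, smul_eq_mul, mul_smul])
      (fun a b b' => by
        show (a : A) • sT (ψ (b + b')) = (a : A) • sT (ψ b) + (a : A) • sT (ψ b')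
        rw [← smul_add]
        refine smul_eq_of_mk_eq J hmJ a.2 ?_
        rw [hsT, map_add, map_add, hsT, hsT])
      (fun r a b => by
        show (a : A) • sT (ψ (r • b)) = r • ((a : A) • sT (ψ b))
        rw [smul_comm]
        refine smul_eq_of_mk_eq J hmJ a.2 ?_
        rw [hsT, map_smul]
        have : Ideal.Quotient.mk J (r • sT (ψ b)) = r • Ideal.Quotient.mk J (sT (ψ b)) := by
          rw [Algebra.smul_def, Algebra.smul_def, map_mul]
          rfl
        rw [this, hsT])
  refine ⟨TensorProduct.lift f, fun a b t ht => ?_⟩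
  rw [TensorProduct.lift.tmul]
  show (a : A) • sT (ψ b) = (a : A) • t
  refine smul_eq_of_mk_eq J hmJ a.2 ?_
  rw [hsT, ht]

/-- the multiplication map `𝔪 ⊗ B → B`. -/
noncomputable def mulMap (A B : Type u) [CommRing A] [CommRing B] [IsLocalRing A] [Algebra A B] :
    (maximalIdeal A) ⊗[A] B →ₗ[A] B :=
  (TensorProduct.lid A B).toLinearMap ∘ₗ LinearMap.rTensor B (maximalIdeal A).subtype

@[simp] theorem mulMap_tmul (a : maximalIdeal A) (b : B) :
    mulMap A B (a ⊗ₜ b) = (a : A) • b := by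
  simp [mulMap]

theorem mulMap_injective [Module.Flat A B] : Function.Injective (mulMap A B) := by
  unfold mulMap
  rw [LinearMap.coe_comp]
  exact (TensorProduct.lid A B).injective.comp
    (Module.Flat.rTensor_preserves_injective_linearMap _ Subtype.val_injective)

theorem mulMap_mem (z : (maximalIdeal A) ⊗[A] B) :
    mulMap A B z ∈ (maximalIdeal A).map (algebraMap A B) := by
  induction z using TensorProduct.induction_on with
  | zero => simp
  | tmul a b =>
    rw [mulMap_tmul, Algebra.smul_def]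
    exact Ideal.mul_mem_right _ _ (Ideal.mem_map_of_mem _ a.2)
  | add x y hx hy => rw [map_add]; exact Ideal.add_mem _ hx hy


/-- **Key vanishing** (flatness + Artin–Rees). -/
theorem key_vanishing [IsLocalRing B] [IsNoetherianRing B] [Module.Flat A B]
    (hmJ : ∀ a ∈ maximalIdeal A, ∀ j ∈ J, a • j = 0) (ψ : B →ₐ[A] T ⧸ J) (k : ℕ)
    (hk : ∀ x ∈ maximalIdeal B ^ k, ψ x = 0)
    (Θ : (maximalIdeal A) ⊗[A] B →ₗ[A] T)
    (hΘ : ∀ (a : maximalIdeal A) (b : B) (t : T),
      Ideal.Quotient.mk J t = ψ b → Θ (a ⊗ₜ b) = (a : A) • t) :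
    ∃ m : ℕ, k ≤ m ∧ ∀ z : (maximalIdeal A) ⊗[A] B,
      mulMap A B z ∈ maximalIdeal B ^ m → Θ z = 0 := by
  obtain ⟨c, hc⟩ := Ideal.exists_pow_inf_eq_pow_smul (maximalIdeal B) (M := B)
    ((maximalIdeal A).map (algebraMap A B) : Submodule B B)
  refine ⟨k + c, Nat.le_add_right k c, fun z hz => ?_⟩
  -- Artin–Rees
  have hAR : mulMap A B z ∈ maximalIdeal B ^ k * (maximalIdeal A).map (algebraMap A B) := by
    have h1 := hc (k + c) (Nat.le_add_left c k)
    have hx : mulMap A B z ∈ ((maximalIdeal B ^ (k + c) • ⊤ : Submodule B B) ⊓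
        ((maximalIdeal A).map (algebraMap A B) : Submodule B B)) := by
      refine ⟨?_, mulMap_mem z⟩
      rw [smul_eq_mul, Ideal.mul_top]
      exact hz
    rw [h1, Nat.add_sub_cancel] at hx
    have h2 : (maximalIdeal B ^ k • ((maximalIdeal B ^ c • ⊤ : Submodule B B) ⊓
        ((maximalIdeal A).map (algebraMap A B) : Submodule B B)) : Submodule B B) ≤
        maximalIdeal B ^ k • ((maximalIdeal A).map (algebraMap A B) : Submodule B B) :=
      Submodule.smul_mono le_rfl inf_le_right
    exact h2 hx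
  -- elements of `𝔫^k · 𝔪B` come from the kernel of `Θ`
  let V : Submodule A B := Submodule.map (mulMap A B) (LinearMap.ker Θ)
  have hV : ∀ x ∈ maximalIdeal B ^ k * (maximalIdeal A).map (algebraMap A B), x ∈ V := by
    intro x hx
    refine Submodule.smul_induction_on hx ?_ ?_
    · intro ν hν y hy
      have hy' : y ∈ (maximalIdeal A • ⊤ : Submodule A B) := by
        rw [Ideal.smul_top_eq_map]; exact hy
      refine Submodule.smul_induction_on hy' ?_ ?_
      · intro a ha b _
        refine ⟨(⟨a, ha⟩ : maximalIdeal A) ⊗ₜ[A] (ν * b), ?_, ?_⟩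
        · rw [SetLike.mem_coe, LinearMap.mem_ker, hΘ _ _ 0 (by
            rw [map_zero]
            exact (hk _ (Ideal.mul_mem_right _ _ hν)).symm), smul_zero]
        · rw [mulMap_tmul]
          show a • (ν * b) = ν • a • b
          rw [smul_eq_mul, mul_smul_comm]
      · intro y₁ y₂ h₁ h₂
        rw [smul_add]
        exact V.add_mem h₁ h₂
    · intro x₁ x₂ h₁ h₂
      exact V.add_mem h₁ h₂
  obtain ⟨z', hz'ker, hz'⟩ := hV _ hAR
  have : z' = z := mulMap_injective hz'
  rw [← this]
  exact hz'ker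

end Key

end Groth.Agent.H5.FSm
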