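import Mathlib
import Groth.Prelude.Def_CAlgX
import Groth.Agent.Lib.Helper5.CA.AdicFS

set_option autoImplicit false
universe u

open IsLocalRing TensorProduct

namespace Groth.Agent.H5.FSm

/-- **Lemma Q**: adic formal smoothness of the fibre `B/IB` over `A/I`, expressed through test
`A`-algebras killed by `I`. -/
theorem lift_of_kills {A B : Type u} [CommRing A] [CommRing B] [Algebra A B] (I : Ideal A)
    (𝔫 : Ideal B)
    (h₀ : CAlgX.IsAdicFormallySmooth (A ⧸ I) (B ⧸ I.map (algebraMap A B))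
      (𝔫.map (Ideal.Quotient.mk (I.map (algebraMap A B)))))
    (T' : Type u) [CommRing T'] [Algebra A T'] (hI : ∀ a ∈ I, algebraMap A T' a = 0)
    (J' : Ideal T') (hJ' : J' ^ 2 = ⊥) (ψ' : B →ₐ[A] T' ⧸ J')
    (hψ' : ∃ k : ℕ, ∀ x ∈ 𝔫 ^ k, ψ' x = 0) :
    ∃ χ' : B →ₐ[A] T', (Ideal.Quotient.mkₐ A J').comp χ' = ψ' := by
  obtain ⟨k, hk⟩ := hψ'
  letI algQ : Algebra (A ⧸ I) T' := (Ideal.Quotient.lift I (algebraMap A T') hI).toAlgebra
  haveI : IsScalarTower A (A ⧸ I) T' := IsScalarTower.of_algebraMap_eq (fun a => rfl)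
  have hker : I.map (algebraMap A B) ≤ RingHom.ker ψ'.toRingHom := by
    rw [Ideal.map_le_iff_le_comap]
    intro a ha
    rw [Ideal.mem_comap, RingHom.mem_ker]
    show ψ' (algebraMap A B a) = 0
    rw [ψ'.commutes]
    show Ideal.Quotient.mk J' (algebraMap A T' a) = 0
    rw [hI a ha, map_zero]
  let ψb : (B ⧸ I.map (algebraMap A B)) →ₐ[A ⧸ I] T' ⧸ J' :=
    { toRingHom := Ideal.Quotient.lift (I.map (algebraMap A B)) ψ'.toRingHom
        (fun x hx => hker hx)
      commutes' := by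
        intro r
        obtain ⟨a, rfl⟩ := Ideal.Quotient.mk_surjective r
        show ψ' (algebraMap A B a) = _
        rw [ψ'.commutes]
        rfl }
  have hψb : ∀ b : B, ψb (Ideal.Quotient.mk _ b) = ψ' b := fun b => rfl
  obtain ⟨χb, hχb⟩ := h₀ T' J' hJ' ψb ⟨k, by
    intro x hx
    rw [← Ideal.map_pow] at hx
    obtain ⟨y, hy, rfl⟩ := (Ideal.mem_map_iff_of_surjective _ Ideal.Quotient.mk_surjective).mp hx
    rw [hψb]
    exact hk y hy⟩
  refine ⟨(χb.restrictScalars A).comp (Ideal.Quotient.mkₐ A _), ?_⟩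
  ext b
  have := congrArg (fun φ => φ (Ideal.Quotient.mk _ b)) hχb
  exact this

end Groth.Agent.H5.FSm
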