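import Mathlib
import Groth.Agent.Lib.Helper5.FSm.FlatFibreQ
import Groth.Agent.Lib.Helper5.FSm.FlatFibreK

set_option autoImplicit false
universe u

open IsLocalRing TensorProduct

namespace Groth.Agent.H5.FSm

/-- abstract fibre product of algebras. -/
theorem exists_fibreProduct {A X Y Z : Type u} [CommRing A] [CommRing X] [CommRing Y] [CommRing Z]
    [Algebra A X] [Algebra A Y] [Algebra A Z] (f : X →ₐ[A] Z) (g : Y →ₐ[A] Z) :
    ∃ (E : Type u) (_ : CommRing E) (_ : Algebra A E) (p₁ : E →ₐ[A] X) (p₂ : E →ₐ[A] Y),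
      (∀ e, f (p₁ e) = g (p₂ e)) ∧ (∀ e, p₁ e = 0 → p₂ e = 0 → e = 0) ∧
      (∀ x y, f x = g y → ∃ e, p₁ e = x ∧ p₂ e = y) := by
  let E : Subalgebra A (X × Y) :=
    AlgHom.equalizer (f.comp (AlgHom.fst A X Y)) (g.comp (AlgHom.snd A X Y))
  refine ⟨E, inferInstance, inferInstance, (AlgHom.fst A X Y).comp E.val,
    (AlgHom.snd A X Y).comp E.val, fun e => e.2, ?_, ?_⟩
  · intro e h1 h2
    apply Subtype.ext
    exact Prod.ext h1 h2
  · intro x y h
    exact ⟨⟨(x, y), h⟩, rfl, rfl⟩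


/-- factoring through a surjection. -/
theorem exists_factor {A E X Y : Type u} [CommRing A] [CommRing E] [CommRing X] [CommRing Y]
    [Algebra A E] [Algebra A X] [Algebra A Y] (p : E →ₐ[A] X) (hp : Function.Surjective p)
    (c : E →ₐ[A] Y) (h : ∀ e, p e = 0 → c e = 0) : ∃ ω : X →ₐ[A] Y, ∀ e, ω (p e) = c e := by
  refine ⟨(Ideal.Quotient.liftₐ (RingHom.ker p) c (fun e he => h e he)).comp
      (Ideal.quotientKerAlgEquivOfSurjective hp).symm.toAlgHom, fun e => ?_⟩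
  have h1 : (Ideal.quotientKerAlgEquivOfSurjective hp).symm (p e) =
      Ideal.Quotient.mk (RingHom.ker p) e := by
    rw [AlgEquiv.symm_apply_eq]
    rfl
  rw [AlgHom.comp_apply]
  show Ideal.Quotient.liftₐ (RingHom.ker p) c (fun e he => h e he)
    ((Ideal.quotientKerAlgEquivOfSurjective hp).symm (p e)) = _
  rw [h1]
  rfl

/-- **Main lemma**: lifting along a square-zero ideal killed by `𝔪_A`, for a flat local
homomorphism whose closed fibre has the lifting property. -/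
theorem exists_lift_of_maximalIdeal_smul_eq_zero
    {A B : Type u} [CommRing A] [CommRing B] [IsLocalRing A] [IsLocalRing B] [IsNoetherianRing B]
    [Algebra A B] [Module.Flat A B]
    (hQ : ∀ (T' : Type u) [CommRing T'] [Algebra A T'],
      (∀ a ∈ maximalIdeal A, algebraMap A T' a = 0) → ∀ (J' : Ideal T'), J' ^ 2 = ⊥ →
      ∀ ψ' : B →ₐ[A] T' ⧸ J', (∃ k : ℕ, ∀ x ∈ maximalIdeal B ^ k, ψ' x = 0) →
      ∃ χ' : B →ₐ[A] T', (Ideal.Quotient.mkₐ A J').comp χ' = ψ')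
    (T : Type u) [CommRing T] [Algebra A T] (J : Ideal T) (hJ : J ^ 2 = ⊥)
    (hmJ : ∀ a ∈ maximalIdeal A, ∀ j ∈ J, a • j = 0)
    (ψ : B →ₐ[A] T ⧸ J) (hψ : ∃ k : ℕ, ∀ x ∈ maximalIdeal B ^ k, ψ x = 0) :
    ∃ χ : B →ₐ[A] T, (Ideal.Quotient.mkₐ A J).comp χ = ψ := by
  classical
  obtain ⟨k, hk⟩ := hψ
  obtain ⟨Θ, hΘ⟩ := exists_theta J hmJ ψ
  obtain ⟨m, hkm, hKey⟩ := key_vanishing J hmJ ψ k hk Θ hΘ
  have hkm' : ∀ x ∈ maximalIdeal B ^ m, ψ x = 0 := fun x hx =>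
    hk x (Ideal.pow_le_pow_right hkm hx)
  -- the truncation
  obtain ⟨ψm, hψm⟩ : ∃ ψm : (B ⧸ maximalIdeal B ^ m) →ₐ[A] T ⧸ J,
      ∀ b : B, ψm (Ideal.Quotient.mk _ b) = ψ b :=
    ⟨Ideal.Quotient.liftₐ _ ψ hkm', fun b => rfl⟩
  -- the fibre product
  obtain ⟨E, _, _, p₁, p₂, hp₁₂, hEext, hEex⟩ := exists_fibreProduct ψm (Ideal.Quotient.mkₐ A J)
  have hp₁surj : Function.Surjective p₁ := by
    intro bb
    obtain ⟨t, ht⟩ := Ideal.Quotient.mk_surjective (ψm bb)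
    obtain ⟨e, he, -⟩ := hEex bb t ht.symm
    exact ⟨e, he⟩
  -- `N ∩ 𝔪E = 0`
  have hNm : ∀ e : E, e ∈ (maximalIdeal A).map (algebraMap A E) → p₁ e = 0 → e = 0 := by
    intro e he h1
    have key : ∀ e ∈ (maximalIdeal A • ⊤ : Submodule A E), ∃ z : (maximalIdeal A) ⊗[A] B,
        Ideal.Quotient.mk (maximalIdeal B ^ m) (mulMap A B z) = p₁ e ∧ Θ z = p₂ e := by
      intro e he
      refine Submodule.smul_induction_on he ?_ ?_
      · intro a ha e₀ _
        obtain ⟨b, hb⟩ := Ideal.Quotient.mk_surjective (p₁ e₀)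
        refine ⟨(⟨a, ha⟩ : maximalIdeal A) ⊗ₜ[A] b, ?_, ?_⟩
        · rw [mulMap_tmul, map_smul p₁, ← hb]
          show Ideal.Quotient.mk _ (a • b) = a • Ideal.Quotient.mk _ b
          rw [Algebra.smul_def, Algebra.smul_def, map_mul]
          rfl
        · rw [hΘ _ b (p₂ e₀) (by
            have := hp₁₂ e₀
            rw [← hb, hψm] at this
            exact this.symm), map_smul p₂]
      · intro e₁ e₂ ⟨z₁, h₁, h₁'⟩ ⟨z₂, h₂, h₂'⟩
        exact ⟨z₁ + z₂, by rw [map_add, map_add, h₁, h₂, map_add],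
          by rw [map_add, h₁', h₂', map_add]⟩
    have he' : e ∈ (maximalIdeal A • ⊤ : Submodule A E) := by
      rw [Ideal.smul_top_eq_map]; exact he
    obtain ⟨z, hz1, hz2⟩ := key e he'
    rw [h1, Ideal.Quotient.eq_zero_iff_mem] at hz1
    have h2 : p₂ e = 0 := by rw [← hz2]; exact hKey z hz1
    exact hEext e h1 h2
  -- the quotient `W = E/𝔪E` and its square-zero ideal
  set mE : Ideal E := (maximalIdeal A).map (algebraMap A E) with hmE
  set N : Ideal E := RingHom.ker p₁ with hN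
  have hNJ : ∀ e ∈ N, p₂ e ∈ J := by
    intro e he
    have h1 : p₁ e = 0 := he
    have h2 := hp₁₂ e
    rw [h1, map_zero] at h2
    exact Ideal.Quotient.eq_zero_iff_mem.mp h2.symm
  have hN2 : N ^ 2 = ⊥ := by
    rw [eq_bot_iff, pow_two, Ideal.mul_le]
    intro e he e' he'
    rw [Ideal.mem_bot]
    apply hEext
    · rw [map_mul, (he : p₁ e = 0), zero_mul]
    · rw [map_mul]
      have h1 : p₂ e * p₂ e' ∈ J ^ 2 := by
        rw [pow_two]; exact Ideal.mul_mem_mul (hNJ e he) (hNJ e' he')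
      rw [hJ] at h1
      exact h1
  set NW : Ideal (E ⧸ mE) := N.map (Ideal.Quotient.mk mE) with hNW
  have hNW2 : NW ^ 2 = ⊥ := by
    rw [hNW, ← Ideal.map_pow, hN2, Ideal.map_bot]
  have hWkill : ∀ a ∈ maximalIdeal A, algebraMap A (E ⧸ mE) a = 0 := by
    intro a ha
    show Ideal.Quotient.mk mE (algebraMap A E a) = 0
    exact Ideal.Quotient.eq_zero_iff_mem.mpr (Ideal.mem_map_of_mem _ ha)
  -- the map `B → W/NW`
  obtain ⟨ω, hω⟩ := exists_factor p₁ hp₁surj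
    ((Ideal.Quotient.mkₐ A NW).comp (Ideal.Quotient.mkₐ A mE)) (by
      intro e he
      show Ideal.Quotient.mk NW (Ideal.Quotient.mk mE e) = 0
      exact Ideal.Quotient.eq_zero_iff_mem.mpr (Ideal.mem_map_of_mem _ he))
  have hω' : ∀ e : E, ω (p₁ e) = Ideal.Quotient.mk NW (Ideal.Quotient.mk mE e) := hω
  have hψW : ∃ k' : ℕ, ∀ x ∈ maximalIdeal B ^ k',
      (ω.comp (Ideal.Quotient.mkₐ A (maximalIdeal B ^ m))) x = 0 := by
    refine ⟨m, fun x hx => ?_⟩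
    show ω (Ideal.Quotient.mk _ x) = 0
    rw [Ideal.Quotient.eq_zero_iff_mem.mpr hx, map_zero]
  obtain ⟨s, hs⟩ := hQ (E ⧸ mE) hWkill NW hNW2
    (ω.comp (Ideal.Quotient.mkₐ A (maximalIdeal B ^ m))) hψW
  have hs' : ∀ b : B, Ideal.Quotient.mk NW (s b) = ω (Ideal.Quotient.mk _ b) := fun b =>
    congrArg (fun φ => φ b) hs
  -- the second fibre product
  obtain ⟨P, _, _, q₁, q₂, hq₁₂, hPext, hPex⟩ := exists_fibreProduct
    (AlgHom.prod (Ideal.Quotient.mkₐ A (maximalIdeal B ^ m)) s)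
    (AlgHom.prod p₁ (Ideal.Quotient.mkₐ A mE))
  have hq₁₂a : ∀ x : P, Ideal.Quotient.mk (maximalIdeal B ^ m) (q₁ x) = p₁ (q₂ x) := fun x =>
    congrArg Prod.fst (hq₁₂ x)
  have hq₁₂b : ∀ x : P, s (q₁ x) = Ideal.Quotient.mk mE (q₂ x) := fun x =>
    congrArg Prod.snd (hq₁₂ x)
  have hq₁inj : Function.Injective q₁ := by
    rw [injective_iff_map_eq_zero]
    intro x hx
    apply hPext x hx
    have h1 : p₁ (q₂ x) = 0 := by rw [← hq₁₂a, hx, map_zero]
    have h2 : Ideal.Quotient.mk mE (q₂ x) = 0 := by rw [← hq₁₂b, hx, map_zero]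
    exact hNm (q₂ x) (Ideal.Quotient.eq_zero_iff_mem.mp h2) h1
  have hq₁surj : Function.Surjective q₁ := by
    intro b
    obtain ⟨e₀, he₀⟩ := hp₁surj (Ideal.Quotient.mk _ b)
    have h1 : Ideal.Quotient.mk NW (Ideal.Quotient.mk mE e₀ - s b) = 0 := by
      rw [map_sub, ← hω', he₀, hs', sub_self]
    have h2 : Ideal.Quotient.mk mE e₀ - s b ∈ NW := Ideal.Quotient.eq_zero_iff_mem.mp h1
    obtain ⟨ν, hν, hνe⟩ :=
      (Ideal.mem_map_iff_of_surjective _ Ideal.Quotient.mk_surjective).mp h2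
    obtain ⟨x, hx1, -⟩ := hPex b (e₀ - ν) (by
      apply Prod.ext
      · show Ideal.Quotient.mk _ b = p₁ (e₀ - ν)
        rw [map_sub, he₀, (hν : p₁ ν = 0), sub_zero]
      · show s b = Ideal.Quotient.mk mE (e₀ - ν)
        rw [map_sub, hνe]
        ring)
    exact ⟨x, hx1⟩
  let ε : P ≃ₐ[A] B := AlgEquiv.ofBijective q₁ ⟨hq₁inj, hq₁surj⟩
  refine ⟨p₂.comp (q₂.comp ε.symm.toAlgHom), ?_⟩
  ext b
  show Ideal.Quotient.mk J (p₂ (q₂ (ε.symm b))) = ψ b
  have h1 : q₁ (ε.symm b) = b := ε.apply_symm_apply b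
  have h2 := hq₁₂a (ε.symm b)
  rw [h1] at h2
  rw [← hψm, h2, hp₁₂]
  rfl

end Groth.Agent.H5.FSm
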