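import Mathlib
import Groth.Agent.Lib.Helper5.FSm.FlatFibreM
import Groth.Agent.Lib.Helper5.CA.AdicFS

set_option autoImplicit false
universe u

open IsLocalRing TensorProduct

namespace Groth.Agent.H5.FSm

/-- reduction to test ideals killed by `𝔪_A` (filtering `J` by `𝔪^i J`). -/
theorem exists_lift_of_pow_mul_eq_bot {A B : Type u} [CommRing A] [CommRing B] [IsLocalRing A]
    [Algebra A B] (𝔫 : Ideal B)
    (hmain : ∀ (T : Type u) [CommRing T] [Algebra A T] (J : Ideal T), J ^ 2 = ⊥ →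
      (∀ a ∈ maximalIdeal A, ∀ j ∈ J, a • j = 0) →
      ∀ ψ : B →ₐ[A] T ⧸ J, (∃ k : ℕ, ∀ x ∈ 𝔫 ^ k, ψ x = 0) →
      ∃ χ : B →ₐ[A] T, (Ideal.Quotient.mkₐ A J).comp χ = ψ) :
    ∀ i : ℕ, 1 ≤ i → ∀ (T : Type u) [CommRing T] [Algebra A T] (J : Ideal T), J ^ 2 = ⊥ →
      (maximalIdeal A ^ i).map (algebraMap A T) * J = ⊥ →
      ∀ ψ : B →ₐ[A] T ⧸ J, (∃ k : ℕ, ∀ x ∈ 𝔫 ^ k, ψ x = 0) →
      ∃ χ : B →ₐ[A] T, (Ideal.Quotient.mkₐ A J).comp χ = ψ := by
  intro i hi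
  induction i, hi using Nat.le_induction with
  | base =>
    intro T _ _ J hJ hmJ ψ hψ
    refine hmain T J hJ ?_ ψ hψ
    intro a ha j hj
    have h1 : algebraMap A T a * j ∈ (maximalIdeal A ^ 1).map (algebraMap A T) * J :=
      Ideal.mul_mem_mul (Ideal.mem_map_of_mem _ (by rwa [pow_one])) hj
    rw [hmJ, Ideal.mem_bot] at h1
    rw [Algebra.smul_def]
    exact h1
  | succ i hi ih =>
    intro T _ _ J hJ hmJ ψ hψ
    obtain ⟨k, hk⟩ := hψ
    set J' : Ideal T := (maximalIdeal A ^ i).map (algebraMap A T) * J with hJ'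
    have hle : J' ≤ J := Ideal.mul_le_right
    set Jb : Ideal (T ⧸ J') := J.map (Ideal.Quotient.mkₐ A J') with hJb
    have hJb' : Jb = J.map (Ideal.Quotient.mk J') := rfl
    have hJb2 : Jb ^ 2 = ⊥ := by
      rw [hJb', ← Ideal.map_pow, hJ, Ideal.map_bot]
    have hJbm : (maximalIdeal A ^ i).map (algebraMap A (T ⧸ J')) * Jb = ⊥ := by
      have h1 : (maximalIdeal A ^ i).map (algebraMap A (T ⧸ J')) =
          ((maximalIdeal A ^ i).map (algebraMap A T)).map (Ideal.Quotient.mk J') := by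
        rw [Ideal.map_map]
        rfl
      rw [h1, hJb', ← Ideal.map_mul, ← hJ']
      exact Ideal.map_quotient_self J'
    let ψ' : B →ₐ[A] (T ⧸ J') ⧸ Jb :=
      (DoubleQuot.quotQuotEquivQuotOfLEₐ A hle).symm.toAlgHom.comp ψ
    have hψ' : ∃ k : ℕ, ∀ x ∈ 𝔫 ^ k, ψ' x = 0 := by
      refine ⟨k, fun x hx => ?_⟩
      show (DoubleQuot.quotQuotEquivQuotOfLEₐ A hle).symm (ψ x) = 0
      rw [hk x hx, map_zero]
    obtain ⟨χ', hχ'⟩ := ih (T ⧸ J') Jb hJb2 hJbm ψ' hψ'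
    have hχ'c : ∃ k : ℕ, ∀ x ∈ 𝔫 ^ k, χ' x = 0 :=
      AdicFS.continuous_of_lift Jb ⟨2, hJb2⟩ 𝔫 χ' (by rw [hχ']; exact hψ')
    have hJ'2 : J' ^ 2 = ⊥ := by
      rw [eq_bot_iff, ← hJ]
      exact Ideal.pow_right_mono hle 2
    have hJ'm : ∀ a ∈ maximalIdeal A, ∀ j ∈ J', a • j = 0 := by
      intro a ha j hj
      have h1 : algebraMap A T a * j ∈ (maximalIdeal A ^ (i + 1)).map (algebraMap A T) * J := by
        rw [pow_succ', Ideal.map_mul, mul_assoc, ← hJ']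
        exact Ideal.mul_mem_mul (Ideal.mem_map_of_mem _ ha) hj
      rw [hmJ, Ideal.mem_bot] at h1
      rw [Algebra.smul_def]
      exact h1
    obtain ⟨χ, hχ⟩ := hmain T J' hJ'2 hJ'm χ' hχ'c
    refine ⟨χ, ?_⟩
    ext b
    have h1 : Ideal.Quotient.mk J' (χ b) = χ' b := congrArg (fun φ => φ b) hχ
    have h2 : Ideal.Quotient.mk Jb (χ' b) = ψ' b := congrArg (fun φ => φ b) hχ'
    have h3 : (DoubleQuot.quotQuotEquivQuotOfLEₐ A hle) (ψ' b) = ψ b :=
      AlgEquiv.apply_symm_apply _ _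
    show Ideal.Quotient.mk J (χ b) = ψ b
    rw [← h3, ← h2, ← h1]
    rfl


/-- **EGA 0_IV 19.7.1, (b) ⇒ (a)**: a flat local homomorphism of Noetherian local rings whose
closed fibre is formally smooth (adic topology) over the residue field is formally smooth. -/
theorem isAdicFormallySmooth_of_flat_of_fibre {A B : Type u} [CommRing A] [CommRing B]
    [IsLocalRing A] [IsLocalRing B] [IsNoetherianRing B] [Algebra A B]
    [IsLocalHom (algebraMap A B)] [Module.Flat A B]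
    (h₀ : CAlgX.IsAdicFormallySmooth (A ⧸ maximalIdeal A)
      (B ⧸ (maximalIdeal A).map (algebraMap A B))
      ((maximalIdeal B).map (Ideal.Quotient.mk ((maximalIdeal A).map (algebraMap A B))))) :
    CAlgX.IsAdicFormallySmooth A B (maximalIdeal B) := by
  have hQ : ∀ (T' : Type u) [CommRing T'] [Algebra A T'],
      (∀ a ∈ maximalIdeal A, algebraMap A T' a = 0) → ∀ (J' : Ideal T'), J' ^ 2 = ⊥ →
      ∀ ψ' : B →ₐ[A] T' ⧸ J', (∃ k : ℕ, ∀ x ∈ maximalIdeal B ^ k, ψ' x = 0) →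
      ∃ χ' : B →ₐ[A] T', (Ideal.Quotient.mkₐ A J').comp χ' = ψ' :=
    fun T' _ _ hI J' hJ' ψ' hψ' =>
      lift_of_kills (maximalIdeal A) (maximalIdeal B) h₀ T' hI J' hJ' ψ' hψ'
  have hmain := fun (T : Type u) [CommRing T] [Algebra A T] (J : Ideal T) (hJ : J ^ 2 = ⊥)
      (hmJ : ∀ a ∈ maximalIdeal A, ∀ j ∈ J, a • j = 0) (ψ : B →ₐ[A] T ⧸ J)
      (hψ : ∃ k : ℕ, ∀ x ∈ maximalIdeal B ^ k, ψ x = 0) =>
    exists_lift_of_maximalIdeal_smul_eq_zero hQ T J hJ hmJ ψ hψ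
  have hind := exists_lift_of_pow_mul_eq_bot (maximalIdeal B) hmain
  intro T _ _ J hJ ψ hψ
  obtain ⟨k, hk⟩ := hψ
  refine hind (k + 1) (Nat.le_add_left 1 k) T J hJ ?_ ψ ⟨k, hk⟩
  have h1 : (maximalIdeal A ^ k).map (algebraMap A T) ≤ J := by
    rw [Ideal.map_le_iff_le_comap]
    intro a ha
    rw [Ideal.mem_comap, ← Ideal.Quotient.eq_zero_iff_mem]
    have h2 : algebraMap A B a ∈ maximalIdeal B ^ k := by
      have h3 : (maximalIdeal A ^ k).map (algebraMap A B) ≤ maximalIdeal B ^ k := by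
        rw [Ideal.map_pow]
        exact Ideal.pow_right_mono (IsLocalRing.map_maximalIdeal_le _) k
      exact h3 (Ideal.mem_map_of_mem _ ha)
    have h4 := hk _ h2
    rw [ψ.commutes] at h4
    exact h4
  rw [eq_bot_iff, ← hJ, pow_two]
  refine Ideal.mul_mono_left ?_
  refine le_trans (Ideal.map_mono (Ideal.pow_le_pow_right (Nat.le_succ k))) h1

end Groth.Agent.H5.FSm
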