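import Mathlib
import Groth.Agent.Lib.Helper5.FSm.FibreTr
import Groth.Agent.Lib.Helper5.FSm.FlatFibre

set_option autoImplicit false
universe u

open IsLocalRing TensorProduct

namespace Groth.Agent.H5.FSm

/-- **EGA 0_IV 19.7.1**. -/
theorem main2038 {A B : Type u} [CommRing A] [CommRing B]
    [IsLocalRing A] [IsLocalRing B] [IsNoetherianRing A] [IsNoetherianRing B] [Algebra A B]
    [IsLocalHom (algebraMap A B)] :
    (Module.Flat A B ∧ CAlg.IsGeometricallyRegular (IsLocalRing.maximalIdeal A).ResidueField
        ((IsLocalRing.maximalIdeal A).Fiber B)) ↔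
      CAlgX.IsAdicFormallySmooth A B (IsLocalRing.maximalIdeal B) := by
  constructor
  · rintro ⟨hflat, hgr⟩
    haveI := hflat
    exact isAdicFormallySmooth_of_flat_of_fibre (isGeometricallyRegular_fiber_iff.mp hgr)
  · intro h
    refine ⟨flat_of_isAdicFormallySmooth h, isGeometricallyRegular_fiber_iff.mpr ?_⟩
    exact H5.NG.isAdicFormallySmooth_quotient_map (maximalIdeal A) (maximalIdeal B) h

end Groth.Agent.H5.FSm
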