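import Mathlib
import Groth.Agent.Lib.Helper5.CA.Cohen1
import Groth.Agent.Lib.Helper5.CA.Cohen6

set_option autoImplicit false
universe u

namespace Groth.Agent.H5.FSm

open IsLocalRing

/-- a local homomorphism of discrete valuation rings with `𝔪_A B = 𝔪_B` is injective. -/
theorem injective_of_map_maximalIdeal {A B : Type u} [CommRing A] [IsDomain A]
    [IsDiscreteValuationRing A] [CommRing B] [IsDomain B] [IsDiscreteValuationRing B]
    (u : A →+* B) [IsLocalHom u] (hu : (maximalIdeal A).map u = maximalIdeal B) :
    Function.Injective u := by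
  rw [injective_iff_map_eq_zero]
  intro x hx
  by_contra hx0
  obtain ⟨ϖ, hϖ⟩ := IsDiscreteValuationRing.exists_irreducible A
  obtain ⟨n, c, hc⟩ := IsDiscreteValuationRing.eq_unit_mul_pow_irreducible hx0 hϖ
  have h1 : u (c : A) * u ϖ ^ n = 0 := by
    rw [← map_pow, ← map_mul, ← hc, hx]
  have h2 : IsUnit (u (c : A)) := c.isUnit.map u
  have h3 : u ϖ ^ n = 0 := by
    rcases mul_eq_zero.mp h1 with h | h
    · exact absurd h h2.ne_zero
    · exact h
  have h4 : u ϖ = 0 := pow_eq_zero_iff (M₀ := B) (n := n) (by
    rintro rfl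
    simp at h3) |>.mp h3
  have h5 : maximalIdeal B = ⊥ := by
    rw [← hu, hϖ.maximalIdeal_eq, Ideal.map_span, Set.image_singleton, h4]
    simp
  exact IsDiscreteValuationRing.not_a_field B h5


/-- a local homomorphism of complete DVRs with `𝔪_A B = 𝔪_B` and separable residue extension is a
Cohen algebra. -/
theorem isCohenAlgebra_of_dvr {A B : Type u} [CommRing A] [IsDomain A]
    [IsDiscreteValuationRing A] [CommRing B] [IsDomain B] [IsDiscreteValuationRing B]
    [IsAdicComplete (maximalIdeal B) B]
    [Algebra A B] [IsLocalHom (algebraMap A B)]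
    (hu : (maximalIdeal A).map (algebraMap A B) = maximalIdeal B)
    (hsep : Algebra.IsGeometricallyReduced (ResidueField A) (ResidueField B)) :
    EGA41.IsCohenAlgebra A B := by
  have hinj := injective_of_map_maximalIdeal (algebraMap A B) hu
  haveI : Module.IsTorsionFree A B := Module.isTorsionFree_iff_algebraMap_injective.mpr hinj
  exact ⟨inferInstance, inferInstance, inferInstance, inferInstance, hu, hsep⟩

theorem main2482 {A B B' : Type u} [CommRing A] [IsDomain A] [IsDiscreteValuationRing A]
    [IsAdicComplete (maximalIdeal A) A]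
    [CommRing B] [IsDomain B] [IsDiscreteValuationRing B] [IsAdicComplete (maximalIdeal B) B]
    [CommRing B'] [IsDomain B'] [IsDiscreteValuationRing B'] [IsAdicComplete (maximalIdeal B') B']
    (u : A →+* B) [IsLocalHom u] (hu : (maximalIdeal A).map u = maximalIdeal B)
    (hsep : letI := (ResidueField.map u).toAlgebra;
      Algebra.IsGeometricallyReduced (ResidueField A) (ResidueField B))
    (u' : A →+* B') [IsLocalHom u'] (hu' : (maximalIdeal A).map u' = maximalIdeal B')
    (σ : ResidueField B ≃+* ResidueField B')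
    (hσ : (σ : ResidueField B →+* ResidueField B').comp (ResidueField.map u) =
      ResidueField.map u') :
    ∃ w : B ≃+* B', (w : B →+* B').comp u = u' ∧
      ∀ b : B, residue B' (w b) = σ (residue B b) := by
  letI algB : Algebra A B := u.toAlgebra
  letI algB' : Algebra A B' := u'.toAlgebra
  haveI : IsLocalHom (algebraMap A B) := ‹IsLocalHom u›
  haveI : IsLocalHom (algebraMap A B') := ‹IsLocalHom u'›
  have hu1 : (maximalIdeal A).map (algebraMap A B) = maximalIdeal B := hu
  have hu1' : (maximalIdeal A).map (algebraMap A B') = maximalIdeal B' := hu'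
  have halg : (ResidueField.map u).toAlgebra =
      (ResidueField.instAlgebra : Algebra (ResidueField A) (ResidueField B)) := by
    apply Algebra.algebra_ext
    intro r
    obtain ⟨a, rfl⟩ := residue_surjective r
    rfl
  have hsep' : Algebra.IsGeometricallyReduced (ResidueField A) (ResidueField B) := by
    rw [← halg]; exact hsep
  have hC : EGA41.IsCohenAlgebra A B := isCohenAlgebra_of_dvr hu1 hsep'
  have hfs0 := Cohen1.isFormallySmoothAdic_of_isCohenAlgebra hC
  have hfs : EGA41.IsFormallySmoothAdic A (maximalIdeal A) B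
      ((maximalIdeal A).map (algebraMap A B)) := by rw [hu1]; exact hfs0
  haveI : IsAdicComplete ((maximalIdeal A).map (algebraMap A B)) B := by rw [hu1]; infer_instance
  haveI : IsAdicComplete ((maximalIdeal A).map (algebraMap A B')) B' := by
    rw [hu1']; infer_instance
  have hinj' := injective_of_map_maximalIdeal (algebraMap A B') hu1'
  haveI : Module.IsTorsionFree A B' := Module.isTorsionFree_iff_algebraMap_injective.mpr hinj'
  -- the isomorphism of special fibres
  let e₀ : (B ⧸ (maximalIdeal A).map (algebraMap A B)) ≃+*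
      (B' ⧸ (maximalIdeal A).map (algebraMap A B')) :=
    ((Ideal.quotEquivOfEq hu1).trans σ).trans (Ideal.quotEquivOfEq hu1').symm
  have he₀ : ∀ b : B, e₀ (Ideal.Quotient.mk _ b) =
      (Ideal.quotEquivOfEq hu1').symm (σ (residue B b)) := fun b => rfl
  let u₀ : (B ⧸ (maximalIdeal A).map (algebraMap A B)) ≃ₐ[A ⧸ maximalIdeal A]
      (B' ⧸ (maximalIdeal A).map (algebraMap A B')) :=
    AlgEquiv.ofRingEquiv (f := e₀) (by
      intro r
      obtain ⟨a, rfl⟩ := Ideal.Quotient.mk_surjective r
      have h1 : algebraMap (A ⧸ maximalIdeal A) (B ⧸ (maximalIdeal A).map (algebraMap A B))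
          (Ideal.Quotient.mk _ a) = Ideal.Quotient.mk _ (algebraMap A B a) := rfl
      have h2 : algebraMap (A ⧸ maximalIdeal A) (B' ⧸ (maximalIdeal A).map (algebraMap A B'))
          (Ideal.Quotient.mk _ a) = Ideal.Quotient.mk _ (algebraMap A B' a) := rfl
      rw [h1, h2, he₀]
      have h3 : σ (residue B (algebraMap A B a)) = residue B' (algebraMap A B' a) := by
        have := congrArg (fun φ => φ (residue A a)) hσ
        exact this
      rw [h3]
      rfl)
  obtain ⟨w, hw⟩ := Cohen6.exists_algEquiv_lift (maximalIdeal A) (le_of_eq hu1) hfs u₀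
  refine ⟨w.toRingEquiv, ?_, ?_⟩
  · ext a
    exact w.commutes a
  · intro b
    have h1 := hw b
    have h2 : u₀ (Ideal.Quotient.mk _ b) = (Ideal.quotEquivOfEq hu1').symm (σ (residue B b)) :=
      he₀ b
    rw [h2] at h1
    have h3 := congrArg (Ideal.quotEquivOfEq hu1') h1
    rw [RingEquiv.apply_symm_apply] at h3
    rw [← h3]
    rfl

end Groth.Agent.H5.FSm
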