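import Mathlib
import Groth.Agent.Lib.Helper5.FSm.Lift2487b
import Groth.Agent.Lib.Helper5.FSm.Flatness
import Groth.Agent.Lib.Helper5.FSm.FlatLift
import Groth.Agent.Lib.Helper5.CA.GR2
import Groth.Agent.Lib.Helper5.CA.NG35
import Groth.Agent.Lib.Helper6.CompleteNoeth

set_option autoImplicit false
universe u

open IsLocalRing TensorProduct

namespace Groth.Agent.H5.FSm

/-- every element of `(A ⧸ J) ⊗ B` is of the form `1 ⊗ b`. -/
theorem exists_one_tmul_quot {A B : Type u} [CommRing A] [CommRing B] [Algebra A B] (J : Ideal A)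
    (x : (A ⧸ J) ⊗[A] B) : ∃ b : B, x = 1 ⊗ₜ b := by
  obtain ⟨b, hb⟩ := Ideal.Quotient.mk_surjective
    ((Algebra.TensorProduct.quotIdealMapEquivQuotTensor B J).symm x)
  refine ⟨b, ?_⟩
  rw [← Algebra.TensorProduct.quotIdealMapEquivQuotTensor_mk B J b, hb,
    AlgEquiv.apply_symm_apply]

theorem one_tmul_quot_eq_zero_iff {A B : Type u} [CommRing A] [CommRing B] [Algebra A B]
    (J : Ideal A) (b : B) : ((1 : A ⧸ J) ⊗ₜ[A] b = 0) ↔ b ∈ J.map (algebraMap A B) := by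
  rw [← Algebra.TensorProduct.quotIdealMapEquivQuotTensor_mk B J b,
    EmbeddingLike.map_eq_zero_iff, Ideal.Quotient.eq_zero_iff_mem]

/-- the surjection `B → B₀` attached to an isomorphism `(A ⧸ J) ⊗ B ≃ B₀`. -/
theorem exists_surjection_of_tensor_equiv {A B B₀ : Type u} [CommRing A] [CommRing B]
    [CommRing B₀] [Algebra A B] (J : Ideal A) [Algebra (A ⧸ J) B₀] [Algebra A B₀]
    [IsScalarTower A (A ⧸ J) B₀] (u : (A ⧸ J) ⊗[A] B ≃ₐ[A ⧸ J] B₀) :
    ∃ π : B →ₐ[A] B₀, Function.Surjective π ∧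
      RingHom.ker π.toRingHom = J.map (algebraMap A B) ∧ ∀ b, π b = u (1 ⊗ₜ b) := by
  let π : B →ₐ[A] B₀ := (u.toAlgHom.restrictScalars A).comp Algebra.TensorProduct.includeRight
  have hπ : ∀ b, π b = u (1 ⊗ₜ b) := fun b => rfl
  refine ⟨π, ?_, ?_, hπ⟩
  · intro y
    obtain ⟨b, hb⟩ := exists_one_tmul_quot J (u.symm y)
    refine ⟨b, ?_⟩
    rw [hπ, ← hb, AlgEquiv.apply_symm_apply]
  · ext b
    rw [RingHom.mem_ker]
    show π b = 0 ↔ _
    rw [hπ, EmbeddingLike.map_eq_zero_iff, one_tmul_quot_eq_zero_iff]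

/-- **EGA 0_IV 19.7.2, uniqueness.** -/
theorem uniq2487 {A : Type u} [CommRing A] [IsLocalRing A] [IsNoetherianRing A]
    (J : Ideal A) (hJ : J ≤ maximalIdeal A)
    (B₀ : Type u) [CommRing B₀] [IsLocalRing B₀] [Algebra (A ⧸ J) B₀]
    (hfs : CAlgX.IsAdicFormallySmooth (A ⧸ J) B₀ (maximalIdeal B₀))
    (B B' : Type u) [CommRing B] [IsLocalRing B] [IsNoetherianRing B] [Algebra A B]
    [IsLocalHom (algebraMap A B)]
    [CommRing B'] [IsLocalRing B'] [IsNoetherianRing B'] [Algebra A B']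
    [IsLocalHom (algebraMap A B')]
    [IsAdicComplete (maximalIdeal B) B] [Module.Flat A B] [IsAdicComplete (maximalIdeal B') B']
    [Module.Flat A B']
    (u : (A ⧸ J) ⊗[A] B ≃ₐ[A ⧸ J] B₀) (u' : (A ⧸ J) ⊗[A] B' ≃ₐ[A ⧸ J] B₀) :
    ∃ v : B ≃ₐ[A] B', (u' : (A ⧸ J) ⊗[A] B' →ₐ[A ⧸ J] B₀).comp
        (Algebra.TensorProduct.map (AlgHom.id (A ⧸ J) (A ⧸ J)) (v : B →ₐ[A] B')) =
      (u : (A ⧸ J) ⊗[A] B →ₐ[A ⧸ J] B₀) := by
  letI algAB₀ : Algebra A B₀ :=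
    ((algebraMap (A ⧸ J) B₀).comp (Ideal.Quotient.mk J)).toAlgebra
  haveI : IsScalarTower A (A ⧸ J) B₀ := IsScalarTower.of_algebraMap_eq (fun _ => rfl)
  obtain ⟨π, hπs, hπk, hπ⟩ := exists_surjection_of_tensor_equiv J u
  obtain ⟨π', hπs', hπk', hπ'⟩ := exists_surjection_of_tensor_equiv J u'
  have hJB : J.map (algebraMap A B) ≤ maximalIdeal B :=
    (Ideal.map_mono hJ).trans (IsLocalRing.map_maximalIdeal_le _)
  have hJB' : J.map (algebraMap A B') ≤ maximalIdeal B' :=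
    (Ideal.map_mono hJ).trans (IsLocalRing.map_maximalIdeal_le _)
  have hkerK : RingHom.ker (algebraMap A (A ⧸ J)) ≤ J := by
    intro a ha
    rw [RingHom.mem_ker] at ha
    exact Ideal.Quotient.eq_zero_iff_mem.mp ha
  have hB : CAlgX.IsAdicFormallySmooth A B (maximalIdeal B) :=
    isAdicFormallySmooth_of_flat_of_lift (fun T' _ _ hI J' hJ' ψ' hψ' =>
      lift_of_kills' (K := A ⧸ J) J Ideal.Quotient.mk_surjective hkerK π hπs hπk.le
        (maximalIdeal B) (maximalIdeal B₀)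
        (by rw [IsLocalRing.map_maximalIdeal_of_surjective π.toRingHom hπs])
        hfs T' (fun a ha => hI a (hJ ha)) J' hJ' ψ' hψ')
  obtain ⟨v, hv⟩ := exists_algEquiv_of_surjective J hJB hJB' hB π π' hπs hπs' hπk hπk'
  refine ⟨v, AlgHom.ext (fun x => ?_)⟩
  obtain ⟨b, rfl⟩ := exists_one_tmul_quot J x
  show u' (Algebra.TensorProduct.map (AlgHom.id (A ⧸ J) (A ⧸ J)) (v : B →ₐ[A] B') (1 ⊗ₜ b)) =
    u (1 ⊗ₜ b)
  rw [Algebra.TensorProduct.map_tmul, ← hπ, ← hv, hπ']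
  rfl

end Groth.Agent.H5.FSm
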