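import Mathlib
import Groth.Agent.Lib.Helper5.FSm.Lift2487c

set_option autoImplicit false
universe u

open IsLocalRing TensorProduct

namespace Groth.Agent.H5.FSm

/-- **EGA 0_IV 19.7.2, existence.** -/
theorem exists2487 {A : Type u} [CommRing A] [IsLocalRing A] [IsNoetherianRing A]
    (J : Ideal A) (hJ : J ≤ maximalIdeal A) [IsLocalRing (A ⧸ J)]
    (B₀ : Type u) [CommRing B₀] [IsLocalRing B₀] [IsNoetherianRing B₀]
    [IsAdicComplete (maximalIdeal B₀) B₀]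
    [Algebra (A ⧸ J) B₀] [IsLocalHom (algebraMap (A ⧸ J) B₀)]
    (hfs : CAlgX.IsAdicFormallySmooth (A ⧸ J) B₀ (maximalIdeal B₀)) :
    ∃ (B : Type u) (_ : CommRing B) (_ : IsLocalRing B) (_ : IsNoetherianRing B)
      (_ : Algebra A B) (_ : IsLocalHom (algebraMap A B)),
      IsAdicComplete (maximalIdeal B) B ∧ Module.Flat A B ∧
        Nonempty ((A ⧸ J) ⊗[A] B ≃ₐ[A ⧸ J] B₀) := by
  -- the closed fibre `L`
  set 𝔪₀ : Ideal (A ⧸ J) := maximalIdeal (A ⧸ J) with h𝔪₀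
  set I₀ : Ideal B₀ := 𝔪₀.map (algebraMap (A ⧸ J) B₀) with hI₀
  have hI₀le : I₀ ≤ maximalIdeal B₀ := IsLocalRing.map_maximalIdeal_le _
  haveI : Nontrivial (B₀ ⧸ I₀) :=
    Ideal.Quotient.nontrivial_iff.mpr (ne_top_of_le_ne_top (maximalIdeal.isMaximal B₀).ne_top hI₀le)
  haveI : IsLocalRing (B₀ ⧸ I₀) :=
    IsLocalRing.of_surjective' (Ideal.Quotient.mk I₀) Ideal.Quotient.mk_surjective
  haveI : IsAdicComplete (maximalIdeal (B₀ ⧸ I₀)) (B₀ ⧸ I₀) := Groth.Agent.H6.isAdicComplete_quotient I₀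
  have hmaxL : (maximalIdeal B₀).map (Ideal.Quotient.mk I₀) = maximalIdeal (B₀ ⧸ I₀) :=
    IsLocalRing.map_maximalIdeal_of_surjective _ Ideal.Quotient.mk_surjective
  have hL : CAlgX.IsAdicFormallySmooth ((A ⧸ J) ⧸ 𝔪₀) (B₀ ⧸ I₀) (maximalIdeal (B₀ ⧸ I₀)) := by
    rw [← hmaxL]
    exact H5.NG.isAdicFormallySmooth_quotient_map 𝔪₀ (maximalIdeal B₀) hfs
  letI : Field ((A ⧸ J) ⧸ 𝔪₀) := Ideal.Quotient.field 𝔪₀
  haveI : IsRegularLocalRing (B₀ ⧸ I₀) :=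
    Groth.Agent.H5.GR.isRegularLocalRing_of_isAdicFormallySmooth ((A ⧸ J) ⧸ 𝔪₀) (B₀ ⧸ I₀) hL
  haveI : Module.Flat (A ⧸ J) B₀ := flat_of_isAdicFormallySmooth hfs
  -- `L` as an `A`-algebra
  letI algAB₀ : Algebra A B₀ :=
    ((algebraMap (A ⧸ J) B₀).comp (Ideal.Quotient.mk J)).toAlgebra
  haveI : IsScalarTower A (A ⧸ J) B₀ := IsScalarTower.of_algebraMap_eq (fun _ => rfl)
  haveI : IsScalarTower A ((A ⧸ J) ⧸ 𝔪₀) (B₀ ⧸ I₀) := IsScalarTower.of_algebraMap_eq (fun _ => rfl)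
  have hmkJ : ∀ a ∈ maximalIdeal A, Ideal.Quotient.mk J a ∈ 𝔪₀ := by
    intro a ha
    rw [h𝔪₀, ← IsLocalRing.map_maximalIdeal_of_surjective (Ideal.Quotient.mk J)
      Ideal.Quotient.mk_surjective]
    exact Ideal.mem_map_of_mem _ ha
  have hK : Function.Surjective (algebraMap A ((A ⧸ J) ⧸ 𝔪₀)) := by
    intro x
    obtain ⟨y, rfl⟩ := Ideal.Quotient.mk_surjective x
    obtain ⟨a, rfl⟩ := Ideal.Quotient.mk_surjective y
    exact ⟨a, rfl⟩
  have hKz : ∀ a ∈ maximalIdeal A, algebraMap A ((A ⧸ J) ⧸ 𝔪₀) a = 0 := by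
    intro a ha
    show Ideal.Quotient.mk 𝔪₀ (Ideal.Quotient.mk J a) = 0
    exact Ideal.Quotient.eq_zero_iff_mem.mpr (hmkJ a ha)
  have hKI : RingHom.ker (algebraMap A ((A ⧸ J) ⧸ 𝔪₀)) ≤ maximalIdeal A := by
    intro a ha
    rw [RingHom.mem_ker] at ha
    by_contra hc
    have hu : IsUnit a := by
      by_contra hn
      exact hc hn
    have := hu.map (algebraMap A ((A ⧸ J) ⧸ 𝔪₀))
    rw [ha] at this
    exact not_isUnit_zero this
  have h0 : ∀ a ∈ maximalIdeal A, algebraMap A (B₀ ⧸ I₀) a = 0 := by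
    intro a ha
    rw [IsScalarTower.algebraMap_apply A ((A ⧸ J) ⧸ 𝔪₀) (B₀ ⧸ I₀), hKz a ha, map_zero]
  obtain ⟨C, _, _, _, _, hloc, hcomp, hflat, π, hπs, hπk⟩ := exists_flat_lift (B₀ ⧸ I₀) h0
  have hC : CAlgX.IsAdicFormallySmooth A C (maximalIdeal C) :=
    isAdicFormallySmooth_of_flat_of_lift (fun T' _ _ hI J' hJ' ψ' hψ' =>
      lift_of_kills' (K := (A ⧸ J) ⧸ 𝔪₀) (maximalIdeal A) hK hKI π hπs hπk.le
        (maximalIdeal C) (maximalIdeal (B₀ ⧸ I₀))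
        (by rw [IsLocalRing.map_maximalIdeal_of_surjective π.toRingHom hπs])
        hL T' hI J' hJ' ψ' hψ')
  -- the reduction `C₀ = C / J C`
  set JC : Ideal C := J.map (algebraMap A C) with hJC
  have hJCle : JC ≤ maximalIdeal C :=
    (Ideal.map_mono hJ).trans (IsLocalRing.map_maximalIdeal_le _)
  haveI : Nontrivial (C ⧸ JC) :=
    Ideal.Quotient.nontrivial_iff.mpr (ne_top_of_le_ne_top (maximalIdeal.isMaximal C).ne_top hJCle)
  haveI : IsLocalRing (C ⧸ JC) :=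
    IsLocalRing.of_surjective' (Ideal.Quotient.mk JC) Ideal.Quotient.mk_surjective
  haveI : IsAdicComplete (maximalIdeal (C ⧸ JC)) (C ⧸ JC) := Groth.Agent.H6.isAdicComplete_quotient JC
  have hmaxC₀ : (maximalIdeal C).map (Ideal.Quotient.mk JC) = maximalIdeal (C ⧸ JC) :=
    IsLocalRing.map_maximalIdeal_of_surjective _ Ideal.Quotient.mk_surjective
  have hC₀ : CAlgX.IsAdicFormallySmooth (A ⧸ J) (C ⧸ JC) (maximalIdeal (C ⧸ JC)) := by
    rw [← hmaxC₀]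
    exact H5.NG.isAdicFormallySmooth_quotient_map J (maximalIdeal C) hC
  have hJCker : ∀ x ∈ JC, π x = 0 := by
    intro x hx
    have h1 : x ∈ RingHom.ker π.toRingHom := by
      rw [hπk]
      exact Ideal.map_mono hJ hx
    exact h1
  let πa : (C ⧸ JC) →ₐ[A] B₀ ⧸ I₀ := Ideal.Quotient.liftₐ JC π hJCker
  have hπa : ∀ c : C, πa (Ideal.Quotient.mk JC c) = π c := fun c => rfl
  haveI : IsScalarTower A (A ⧸ J) (C ⧸ JC) := IsScalarTower.of_algebraMap_eq (fun _ => rfl)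
  haveI : IsScalarTower A (A ⧸ J) (B₀ ⧸ I₀) := IsScalarTower.of_algebraMap_eq (fun _ => rfl)
  let π₁ : (C ⧸ JC) →ₐ[A ⧸ J] B₀ ⧸ I₀ :=
    AlgHom.extendScalarsOfSurjective (Ideal.Quotient.mk_surjective (I := J)) πa
  have hπ₁ : ∀ c : C, π₁ (Ideal.Quotient.mk JC c) = π c := fun c => rfl
  have hπ₁s : Function.Surjective π₁ := by
    intro y
    obtain ⟨c, rfl⟩ := hπs y
    exact ⟨Ideal.Quotient.mk JC c, rfl⟩
  have hπ₁k : RingHom.ker π₁.toRingHom = 𝔪₀.map (algebraMap (A ⧸ J) (C ⧸ JC)) := by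
    apply le_antisymm
    · intro x hx
      obtain ⟨c, rfl⟩ := Ideal.Quotient.mk_surjective x
      rw [RingHom.mem_ker] at hx
      have h1 : c ∈ RingHom.ker π.toRingHom := hx
      rw [hπk] at h1
      have h2 : Ideal.Quotient.mk JC c ∈ ((maximalIdeal A).map (algebraMap A C)).map
          (Ideal.Quotient.mk JC) := Ideal.mem_map_of_mem _ h1
      rw [Ideal.map_map] at h2
      have h3 : (Ideal.Quotient.mk JC).comp (algebraMap A C) =
          (algebraMap (A ⧸ J) (C ⧸ JC)).comp (Ideal.Quotient.mk J) := rfl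
      rw [h3, ← Ideal.map_map] at h2
      refine Ideal.map_mono ?_ h2
      rw [Ideal.map_le_iff_le_comap]
      exact fun a ha => hmkJ a ha
    · rw [Ideal.map_le_iff_le_comap]
      intro r hr
      rw [Ideal.mem_comap, RingHom.mem_ker]
      show π₁ (algebraMap (A ⧸ J) (C ⧸ JC) r) = 0
      rw [π₁.commutes]
      show Ideal.Quotient.mk I₀ (algebraMap (A ⧸ J) B₀ r) = 0
      exact Ideal.Quotient.eq_zero_iff_mem.mpr (Ideal.mem_map_of_mem _ hr)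
  let π₂ : B₀ →ₐ[A ⧸ J] B₀ ⧸ I₀ := Ideal.Quotient.mkₐ (A ⧸ J) I₀
  have hπ₂s : Function.Surjective π₂ := Ideal.Quotient.mk_surjective
  have hπ₂k : RingHom.ker π₂.toRingHom = 𝔪₀.map (algebraMap (A ⧸ J) B₀) := Ideal.mk_ker
  have h𝔪₀C₀ : 𝔪₀.map (algebraMap (A ⧸ J) (C ⧸ JC)) ≤ maximalIdeal (C ⧸ JC) := by
    rw [← hπ₁k]
    intro x hx
    rw [RingHom.mem_ker] at hx
    rw [mem_maximalIdeal, mem_nonunits_iff]
    intro hu
    have := hu.map π₁
    rw [show π₁ x = 0 from hx] at this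
    exact not_isUnit_zero this
  obtain ⟨v, -⟩ := exists_algEquiv_of_surjective 𝔪₀ h𝔪₀C₀ hI₀le hC₀ π₁ π₂ hπ₁s hπ₂s hπ₁k hπ₂k
  exact ⟨C, inferInstance, inferInstance, inferInstance, inferInstance, hloc, hcomp, hflat,
    ⟨(Algebra.TensorProduct.quotIdealMapEquivQuotTensor C J).symm.trans v⟩⟩

end Groth.Agent.H5.FSm
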