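import Mathlib
import Groth.Agent.Lib.Helper5.FSm.Flatness
import Groth.Agent.Lib.Helper5.CA.NG21
import Groth.Agent.Lib.Helper5.CA.GR1

set_option autoImplicit false
universe u

open IsLocalRing TensorProduct

namespace Groth.Agent.H5.FSm

/-- the local homomorphisms `A_p → B_q` of a formally smooth map are adically formally smooth. -/
theorem isAdicFormallySmooth_localRingHom (A B : Type u) [CommRing A] [CommRing B] [Algebra A B]
    [Algebra.FormallySmooth A B] (q : Ideal B) [q.IsPrime] :
    letI := (Localization.localRingHom (Ideal.comap (algebraMap A B) q) q (algebraMap A B)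
      rfl).toAlgebra
    CAlgX.IsAdicFormallySmooth (Localization.AtPrime (Ideal.comap (algebraMap A B) q))
      (Localization.AtPrime q) (IsLocalRing.maximalIdeal (Localization.AtPrime q)) := by
  letI := (Localization.localRingHom (Ideal.comap (algebraMap A B) q) q (algebraMap A B)
    rfl).toAlgebra
  haveI : IsScalarTower A (Localization.AtPrime (Ideal.comap (algebraMap A B) q))
      (Localization.AtPrime q) := IsScalarTower.of_algebraMap_eq (fun a => by
    rw [RingHom.algebraMap_toAlgebra, Localization.localRingHom_to_map,
      ← IsScalarTower.algebraMap_apply])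
  haveI : Algebra.FormallySmooth (Localization.AtPrime (Ideal.comap (algebraMap A B) q))
      (Localization.AtPrime q) :=
    Algebra.FormallySmooth.localization_base (Ideal.comap (algebraMap A B) q).primeCompl
  exact Groth.Agent.H5.GR.isAdicFormallySmooth_of_formallySmooth _ _ _

/-- a formally smooth homomorphism of Noetherian rings is flat. -/
theorem flat_of_formallySmooth (A B : Type u) [CommRing A] [CommRing B] [Algebra A B]
    [IsNoetherianRing A] [IsNoetherianRing B] [Algebra.FormallySmooth A B] :
    Module.Flat A B := by
  rw [← RingHom.flat_algebraMap_iff]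
  apply RingHom.Flat.ofLocalizationPrime
  intro q hq
  letI := (Localization.localRingHom (Ideal.comap (algebraMap A B) q) q (algebraMap A B)
    rfl).toAlgebra
  haveI : IsLocalHom (algebraMap (Localization.AtPrime (Ideal.comap (algebraMap A B) q))
      (Localization.AtPrime q)) :=
    Localization.isLocalHom_localRingHom _ _ _ rfl
  haveI : IsNoetherianRing (Localization.AtPrime (Ideal.comap (algebraMap A B) q)) :=
    IsLocalization.isNoetherianRing (Ideal.comap (algebraMap A B) q).primeCompl _ inferInstance
  haveI : IsNoetherianRing (Localization.AtPrime q) :=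
    IsLocalization.isNoetherianRing q.primeCompl _ inferInstance
  have h := isAdicFormallySmooth_localRingHom A B q
  have hfl := flat_of_isAdicFormallySmooth h
  exact RingHom.flat_algebraMap_iff.mpr hfl

theorem main19379 (A B : Type u) [CommRing A] [CommRing B] [Algebra A B]
    [IsNoetherianRing A] [IsNoetherianRing B] [Algebra.FormallySmooth A B] :
    CAlg.IsRegularHom A B := by
  refine ⟨flat_of_formallySmooth A B, fun p _ => ?_⟩
  haveI : Algebra.EssFiniteType B (B ⊗[A] p.ResidueField) := inferInstance
  haveI : IsNoetherianRing (B ⊗[A] p.ResidueField) := Algebra.EssFiniteType.isNoetherianRing B _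
  haveI hN : IsNoetherianRing (p.ResidueField ⊗[A] B) :=
    isNoetherianRing_of_ringEquiv _ (Algebra.TensorProduct.comm A B p.ResidueField).toRingEquiv
  haveI : Algebra.FormallySmooth p.ResidueField (p.ResidueField ⊗[A] B) := inferInstance
  exact ⟨hN, H5.NG.isGeometricallyRegular_of_formallySmooth p.ResidueField
    (p.ResidueField ⊗[A] B)⟩

end Groth.Agent.H5.FSm
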