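import Mathlib
import Groth.Agent.Lib.Helper5.FSm.FibreTr
import Groth.Agent.Lib.Helper5.FSm.FlatFibre
import Groth.Agent.Lib.Helper5.CA.GR2

set_option autoImplicit false
universe u

open IsLocalRing TensorProduct

namespace Groth.Agent.H5.FSm

/-- the fibre `K' ⊗_A C` from a surjection `C → B₀` with kernel `𝔪 C`, for any residue field
model `K'`. -/
theorem nonempty_algEquiv_of_ker_eq' {A : Type u} [CommRing A] [IsLocalRing A]
    {K' : Type u} [Field K'] [Algebra A K'] (hs : Function.Surjective (algebraMap A K'))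
    (hk : ∀ a ∈ maximalIdeal A, algebraMap A K' a = 0)
    {C B₀ : Type u} [CommRing C] [CommRing B₀] [Algebra A C] [Algebra A B₀]
    [Algebra K' B₀] [IsScalarTower A K' B₀]
    (π : C →ₐ[A] B₀) (hπs : Function.Surjective π)
    (hπk : RingHom.ker π.toRingHom = (maximalIdeal A).map (algebraMap A C)) :
    Nonempty (K' ⊗[A] C ≃ₐ[K'] B₀) := by
  let Φ : K' ⊗[A] C →ₐ[K'] B₀ :=
    Algebra.TensorProduct.lift (Algebra.ofId K' B₀) π (fun _ _ => Commute.all _ _)
  have hΦ : ∀ c : C, Φ (1 ⊗ₜ c) = π c := by
    intro c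
    simp [Φ]
  have hrep : ∀ x : K' ⊗[A] C, ∃ c : C, x = 1 ⊗ₜ c := by
    intro x
    induction x using TensorProduct.induction_on with
    | zero => exact ⟨0, by simp⟩
    | tmul r c =>
      obtain ⟨a, rfl⟩ := hs r
      refine ⟨a • c, ?_⟩
      rw [TensorProduct.tmul_smul, TensorProduct.smul_tmul']
      congr 1
      rw [Algebra.smul_def, mul_one]
    | add x y hx hy =>
      obtain ⟨c, rfl⟩ := hx
      obtain ⟨c', rfl⟩ := hy
      exact ⟨c + c', by rw [TensorProduct.tmul_add]⟩
  have hkill : ∀ c ∈ (maximalIdeal A).map (algebraMap A C), (1 : K') ⊗ₜ[A] c = 0 := by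
    intro c hc
    have hc' : c ∈ (maximalIdeal A • ⊤ : Submodule A C) := by
      rw [Ideal.smul_top_eq_map]
      exact hc
    refine Submodule.smul_induction_on hc' ?_ ?_
    · intro a ha c' _
      rw [TensorProduct.tmul_smul, TensorProduct.smul_tmul']
      have : a • (1 : K') = 0 := by
        rw [Algebra.smul_def, mul_one]
        exact hk a ha
      rw [this, TensorProduct.zero_tmul]
    · intro x y hx hy
      rw [TensorProduct.tmul_add, hx, hy, add_zero]
  refine ⟨AlgEquiv.ofBijective Φ ⟨?_, ?_⟩⟩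
  · rw [injective_iff_map_eq_zero]
    intro x hx
    obtain ⟨c, rfl⟩ := hrep x
    rw [hΦ] at hx
    refine hkill c ?_
    rw [← hπk]
    exact hx
  · intro y
    obtain ⟨c, rfl⟩ := hπs y
    exact ⟨1 ⊗ₜ c, hΦ c⟩

/-- geometric regularity is invariant under isomorphism. -/
theorem isGeometricallyRegular_of_algEquiv {k S S' : Type u} [Field k] [CommRing S] [CommRing S']
    [Algebra k S] [Algebra k S'] (e : S ≃ₐ[k] S') (h : CAlg.IsGeometricallyRegular k S) :
    CAlg.IsGeometricallyRegular k S' := by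
  intro k' _ _ hfin
  haveI := h k' hfin
  exact IsRegularRing.of_ringEquiv
    (Algebra.TensorProduct.congr (AlgEquiv.refl : k' ≃ₐ[k] k') e).toRingEquiv

/-- **EGA 0_IV 19.7.2 (existence)** over the residue field. -/
theorem main2040 {A B : Type u} [CommRing A] [IsLocalRing A]
    [IsNoetherianRing A] [CommRing B] [IsLocalRing B]
    [IsNoetherianRing B] [IsAdicComplete (IsLocalRing.maximalIdeal B) B]
    [Algebra (IsLocalRing.maximalIdeal A).ResidueField B]
    (hB : CAlgX.IsAdicFormallySmooth (IsLocalRing.maximalIdeal A).ResidueField B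
      (IsLocalRing.maximalIdeal B)) :
    ∃ (C : Type u) (_ : CommRing C) (_ : IsLocalRing C) (_ : Algebra A C),
      IsNoetherianRing C ∧ IsAdicComplete (IsLocalRing.maximalIdeal C) C ∧
        IsLocalHom (algebraMap A C) ∧
        CAlgX.IsAdicFormallySmooth A C (IsLocalRing.maximalIdeal C) ∧
        Nonempty ((IsLocalRing.maximalIdeal A).Fiber C
          ≃ₐ[(IsLocalRing.maximalIdeal A).ResidueField] B) := by
  haveI : IsRegularLocalRing B :=
    Groth.Agent.H5.GR.isRegularLocalRing_of_isAdicFormallySmooth _ B hB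
  letI algAB : Algebra A B := ((algebraMap (maximalIdeal A).ResidueField B).comp
    (algebraMap A (maximalIdeal A).ResidueField)).toAlgebra
  haveI : IsScalarTower A (maximalIdeal A).ResidueField B :=
    IsScalarTower.of_algebraMap_eq (fun _ => rfl)
  have hk : ∀ a ∈ maximalIdeal A, algebraMap A (maximalIdeal A).ResidueField a = 0 :=
    fun a ha => Ideal.algebraMap_residueField_eq_zero.mpr ha
  have h0 : ∀ a ∈ maximalIdeal A, algebraMap A B a = 0 := by
    intro a ha
    show algebraMap (maximalIdeal A).ResidueField B (algebraMap A _ a) = 0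
    rw [hk a ha, map_zero]
  obtain ⟨C, _, _, _, _, hloc, hcomp, hflat, π, hπs, hπk⟩ := exists_flat_lift B h0
  obtain ⟨Φ⟩ := nonempty_algEquiv_of_ker_eq' (K' := (maximalIdeal A).ResidueField)
    (Ideal.algebraMap_residueField_surjective _) hk π hπs hπk
  have hgr : CAlg.IsGeometricallyRegular (maximalIdeal A).ResidueField
      ((maximalIdeal A).Fiber C) :=
    isGeometricallyRegular_of_algEquiv Φ.symm
      ((H5.NG.isGeometricallyRegular_iff_isAdicFormallySmooth _ B).mpr hB)
  refine ⟨C, inferInstance, inferInstance, inferInstance, inferInstance, hcomp, hloc, ?_, ⟨Φ⟩⟩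
  exact isAdicFormallySmooth_of_flat_of_fibre (isGeometricallyRegular_fiber_iff.mp hgr)

end Groth.Agent.H5.FSm
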