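import Mathlib
import Groth.Agent.Lib.Helper5.FSm.FlatLift

set_option autoImplicit false
universe u

open IsLocalRing TensorProduct

namespace Groth.Agent.H5.FSm

/-- the fibre `k ⊗_A C` from a surjection `C → B₀` with kernel `𝔪 C`. -/
theorem nonempty_algEquiv_of_ker_eq {A : Type u} [CommRing A] [IsLocalRing A]
    {C B₀ : Type u} [CommRing C] [CommRing B₀] [Algebra A C] [Algebra A B₀]
    [Algebra (ResidueField A) B₀] [IsScalarTower A (ResidueField A) B₀]
    (π : C →ₐ[A] B₀) (hπs : Function.Surjective π)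
    (hπk : RingHom.ker π.toRingHom = (maximalIdeal A).map (algebraMap A C)) :
    Nonempty (ResidueField A ⊗[A] C ≃ₐ[ResidueField A] B₀) := by
  let Φ : ResidueField A ⊗[A] C →ₐ[ResidueField A] B₀ :=
    Algebra.TensorProduct.lift (Algebra.ofId (ResidueField A) B₀) π (fun _ _ => Commute.all _ _)
  have hΦ : ∀ c : C, Φ (1 ⊗ₜ c) = π c := by
    intro c
    simp [Φ]
  -- every element is `1 ⊗ c`
  have hrep : ∀ x : ResidueField A ⊗[A] C, ∃ c : C, x = 1 ⊗ₜ c := by
    intro x
    induction x using TensorProduct.induction_on with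
    | zero => exact ⟨0, by simp⟩
    | tmul r c =>
      obtain ⟨a, rfl⟩ := residue_surjective r
      refine ⟨a • c, ?_⟩
      rw [TensorProduct.tmul_smul, TensorProduct.smul_tmul']
      congr 1
      rw [Algebra.smul_def, mul_one]
      rfl
    | add x y hx hy =>
      obtain ⟨c, rfl⟩ := hx
      obtain ⟨c', rfl⟩ := hy
      exact ⟨c + c', by rw [TensorProduct.tmul_add]⟩
  have hkill : ∀ c ∈ (maximalIdeal A).map (algebraMap A C),
      (1 : ResidueField A) ⊗ₜ[A] c = 0 := by
    intro c hc
    have hc' : c ∈ (maximalIdeal A • ⊤ : Submodule A C) := by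
      rw [Ideal.smul_top_eq_map]
      exact hc
    refine Submodule.smul_induction_on hc' ?_ ?_
    · intro a ha c' _
      rw [TensorProduct.tmul_smul, TensorProduct.smul_tmul']
      have : a • (1 : ResidueField A) = 0 := by
        rw [Algebra.smul_def, mul_one]
        exact (residue_eq_zero_iff a).mpr ha
      rw [this, TensorProduct.zero_tmul]
    · intro x y hx hy
      rw [TensorProduct.tmul_add, hx, hy, add_zero]
  refine ⟨AlgEquiv.ofBijective Φ ⟨?_, ?_⟩⟩
  · rw [injective_iff_map_eq_zero]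
    intro x hx
    obtain ⟨c, rfl⟩ := hrep x
    rw [hΦ] at hx
    refine hkill c ?_
    rw [← hπk]
    exact hx
  · intro y
    obtain ⟨c, rfl⟩ := hπs y
    exact ⟨1 ⊗ₜ c, hΦ c⟩

theorem main4514 {A : Type u} [CommRing A] [IsLocalRing A] [IsNoetherianRing A]
    (B₀ : Type u) [CommRing B₀] [IsRegularLocalRing B₀] [IsAdicComplete (maximalIdeal B₀) B₀]
    [Algebra (ResidueField A) B₀] :
    ∃ (B : Type u) (_ : CommRing B) (_ : IsLocalRing B) (_ : IsNoetherianRing B) (_ : Algebra A B)
      (_ : IsLocalHom (algebraMap A B)),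
      IsAdicComplete (maximalIdeal B) B ∧ Module.Flat A B ∧
        Nonempty (ResidueField A ⊗[A] B ≃ₐ[ResidueField A] B₀) := by
  letI algAB₀ : Algebra A B₀ := ((algebraMap (ResidueField A) B₀).comp (residue A)).toAlgebra
  haveI : IsScalarTower A (ResidueField A) B₀ := IsScalarTower.of_algebraMap_eq (fun _ => rfl)
  have h0 : ∀ a ∈ maximalIdeal A, algebraMap A B₀ a = 0 := by
    intro a ha
    show algebraMap (ResidueField A) B₀ (residue A a) = 0
    rw [(residue_eq_zero_iff a).mpr ha, map_zero]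
  obtain ⟨C, _, _, _, _, hloc, hcomp, hflat, π, hπs, hπk⟩ := exists_flat_lift B₀ h0
  exact ⟨C, inferInstance, inferInstance, inferInstance, inferInstance, hloc, hcomp, hflat,
    nonempty_algEquiv_of_ker_eq π hπs hπk⟩

end Groth.Agent.H5.FSm
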